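import Cfsg.Agent.Lib.CharTransfer57.Comp

/-!
# The Baumann subgroup in adapted coordinates
-/

set_option autoImplicit false
set_option linter.unusedSectionVars false

namespace Cfsg.Agent.Lib.CharTransfer57

open Cfsg
open Cfsg.Agent.Lib
open Cfsg.Agent.Lib.LAEven57.PushingUp (SL2 uMat lMat wMat)

universe u

namespace CData

variable {G : Type u} [Group G] [Finite G] {p : ℕ} [hp : Fact p.Prime] (k : CData G p)

/-- The intersection of the elementary abelian subgroups of largest order inside `O_p(G)`. -/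
def W1 (_k : CData G p) : Subgroup G := ⨅ A ∈ PGroups.maxElemAbIn p (pCore p G), A

theorem max_P_le_max (A : Subgroup G) (hA : A ∈ PGroups.maxElemAbIn p (pCore p G)) :
    A ∈ PGroups.maxElemAbIn p k.c.SS := by
  obtain ⟨B, hB⟩ := PGroups.maxElemAbIn_nonempty p k.c.SS
  exact PGroups.maxElemAbIn_mono k.c.P_le (k.max_data hB).1 (sup_le inf_le_right k.c.Vv_le_P) hA

theorem W1_le {A : Subgroup G} (hA : A ∈ PGroups.maxElemAbIn p k.c.SS) :
    k.W1 ≤ (A ⊓ pCore p G) ⊔ k.c.Vv := by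
  have h := (k.max_data hA).1
  refine iInf₂_le _ ⟨sup_le inf_le_right k.c.Vv_le_P, h.2.1, fun B hB hB' => ?_⟩
  exact h.2.2 B (hB.trans k.c.P_le) hB'

theorem W0_le_W1 : k.c.W0 ≤ k.W1 :=
  le_iInf₂ fun A hA => k.c.W0_le_of_max (k.max_P_le_max A hA)

instance W1_normal : (k.W1).Normal := by
  refine ⟨fun w hw g => ?_⟩
  simp only [W1, Subgroup.mem_iInf] at hw ⊢
  intro A hA
  have hP : (pCore p G).map (MulAut.conj g⁻¹).toMonoidHom = pCore p G :=
    PGroups.map_conj_eq_of_mem_normalizer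
      ((Subgroup.normalizer_eq_top_iff.2 (inferInstance : (pCore p G).Normal)).symm ▸ Subgroup.mem_top _)
  have hA' : A.map (MulAut.conj g⁻¹).toMonoidHom ∈ PGroups.maxElemAbIn p (pCore p G) := by
    rw [← hP, PGroups.map_maxElemAbIn _ (MulAut.conj g⁻¹).injective]
    exact ⟨A, hA, rfl⟩
  obtain ⟨a, ha, he⟩ := hw _ hA'
  simp only [MulEquiv.coe_toMonoidHom, MulAut.conj_apply, inv_inv] at he
  rwa [← he, show g * (g⁻¹ * a * g) * g⁻¹ = a by group]

/-- The elements centralising `W1` modulo `V`. -/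
def K1 : Subgroup G :=
  (Subgroup.centralizer ((k.W1.map (QuotientGroup.mk' k.c.Vv) : Subgroup (G ⧸ k.c.Vv)) :
    Set (G ⧸ k.c.Vv))).comap (QuotientGroup.mk' k.c.Vv)

instance K1_normal : (k.K1).Normal := by
  haveI : (k.W1.map (QuotientGroup.mk' k.c.Vv)).Normal :=
    Subgroup.Normal.map inferInstance _ (QuotientGroup.mk'_surjective _)
  exact Subgroup.normal_comap _

theorem mem_K1 {g : G} : g ∈ k.K1 ↔ ∀ w ∈ k.W1, g * w * g⁻¹ * w⁻¹ ∈ k.c.Vv := by
  simp only [K1, Subgroup.mem_comap, Subgroup.mem_centralizer_iff, SetLike.mem_coe, Subgroup.mem_map,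
    forall_exists_index, and_imp, forall_apply_eq_imp_iff₂, QuotientGroup.mk'_apply]
  refine forall₂_congr fun w _ => ?_
  rw [← QuotientGroup.mk_mul, ← QuotientGroup.mk_mul, QuotientGroup.eq, show g * w * g⁻¹ * w⁻¹ =
    (g * w) * ((w * g)⁻¹ * (g * w)) * (g * w)⁻¹ by group]
  exact ⟨fun h => Subgroup.Normal.conj_mem inferInstance _ h _, fun h => by
    simpa [mul_assoc] using Subgroup.Normal.conj_mem inferInstance _ h (g * w)⁻¹⟩

theorem max_le_K1 {A : Subgroup G} (hA : A ∈ PGroups.maxElemAbIn p k.c.SS) : A ≤ k.K1 := by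
  intro a ha
  rw [k.mem_K1]
  intro w hw
  obtain ⟨x, hx, v, hv, rfl⟩ := Subgroup.mem_sup_of_normal_right.1 (k.W1_le hA hw)
  have hax : a * x = x * a := PGroups.elemAb_comm hA.2.1 ha hx.1
  rw [show a * (x * v) * a⁻¹ * (x * v)⁻¹ = (a * x) * v * a⁻¹ * v⁻¹ * x⁻¹ by group, hax,
    show x * a * v * a⁻¹ * v⁻¹ * x⁻¹ = x * ((a * v * a⁻¹) * v⁻¹) * x⁻¹ by group]
  exact Subgroup.Normal.conj_mem inferInstance _
    (mul_mem (Subgroup.Normal.conj_mem inferInstance _ hv _) (inv_mem hv)) _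

open scoped Pointwise in
theorem thompson_le_K1 : thompsonSubgroup p G ≤ k.K1 := by
  have hJ : k.c.Jt ≤ k.K1 := by
    show thompsonSubgroupOf p k.c.SS ≤ _
    rw [PGroups.thompsonSubgroupOf_eq]
    exact sSup_le fun A hA => k.max_le_K1 hA
  rw [PLocal.thompsonSubgroup_eq_iSup]
  refine iSup_le fun Q => ?_
  obtain ⟨g, hg⟩ := MulAction.exists_smul_eq G k.c.S Q
  rw [← hg, Sylow.coe_subgroup_smul, Subgroup.pointwise_smul_def]
  refine le_of_eq_of_le (PGroups.thompsonSubgroupOf_conj g k.c.SS).symm ?_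
  rintro _ ⟨a, ha, rfl⟩
  exact Subgroup.Normal.conj_mem inferInstance a (hJ ha) g

/-- `W = W0 ⊔ V`. -/
abbrev W : Subgroup G := k.c.W0 ⊔ k.c.Vv

instance W_normal : (k.W).Normal := by
  refine Subgroup.normalizer_eq_top_iff.1 (top_le_iff.1 (k.c.thompson_sup_eq_top.ge.trans (sup_le ?_ ?_)))
  · intro g hg
    refine Subgroup.mem_normalizer_iff.2 ?_
    have key : ∀ g ∈ thompsonSubgroup p G, ∀ w ∈ k.W, g * w * g⁻¹ ∈ k.W := by
      intro g hg w hw
      obtain ⟨a, ha, v, hv, rfl⟩ := Subgroup.mem_sup_of_normal_right.1 hw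
      rw [show g * (a * v) * g⁻¹ = (g * a * g⁻¹ * a⁻¹) * a * (g * v * g⁻¹) by group]
      exact mul_mem (mul_mem (le_sup_right (a := k.c.W0)
        ((k.mem_K1.1 (k.thompson_le_K1 hg)) a (k.W0_le_W1 ha))) (le_sup_left (b := k.c.Vv) ha))
        (le_sup_right (a := k.c.W0) (Subgroup.Normal.conj_mem inferInstance v hv g))
    intro x
    refine ⟨key g hg x, fun h => ?_⟩
    have h' := key g⁻¹ (inv_mem hg) _ h
    simpa [mul_assoc] using h'
  · intro s hs
    have h0 := k.c.S_le_normalizer_W0 hs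
    refine Subgroup.mem_normalizer_iff.2 ?_
    have key : ∀ s ∈ k.c.SS, ∀ w ∈ k.W, s * w * s⁻¹ ∈ k.W := by
      intro s hs w hw
      obtain ⟨a, ha, v, hv, rfl⟩ := Subgroup.mem_sup_of_normal_right.1 hw
      rw [show s * (a * v) * s⁻¹ = (s * a * s⁻¹) * (s * v * s⁻¹) by group]
      exact mul_mem (le_sup_left (b := k.c.Vv)
        ((Subgroup.mem_normalizer_iff.1 (k.c.S_le_normalizer_W0 hs) a).1 ha))
        (le_sup_right (a := k.c.W0) (Subgroup.Normal.conj_mem inferInstance v hv s))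
    intro x
    refine ⟨key s hs x, fun h => ?_⟩
    have h' := key s⁻¹ (inv_mem hs) _ h
    simpa [mul_assoc] using h'

theorem Vv_comm_W0 : k.c.Vv ≤ Subgroup.centralizer (k.c.W0 : Set G) :=
  Subgroup.le_centralizer_iff.1 (k.c.W0_le_cJ.trans (Subgroup.centralizer_le k.Vv_le_Jt))

theorem W_le_P : k.W ≤ pCore p G := sup_le k.W0_le_P k.c.Vv_le_P

theorem mem_cW {g : G} :
    g ∈ Subgroup.centralizer (k.W : Set G) ↔
      g ∈ Subgroup.centralizer (k.c.W0 : Set G) ∧ g ∈ Subgroup.centralizer (k.c.Vv : Set G) := by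
  refine ⟨fun h => ⟨Subgroup.centralizer_le (le_sup_left (b := k.c.Vv)) h,
    Subgroup.centralizer_le (le_sup_right (a := k.c.W0)) h⟩, fun h => ?_⟩
  refine Subgroup.mem_centralizer_iff.2 fun w hw => ?_
  obtain ⟨a, ha, v, hv, rfl⟩ := Subgroup.mem_sup_of_normal_right.1 hw
  rw [mul_assoc, Subgroup.mem_centralizer_iff.1 h.2 v hv, ← mul_assoc,
    Subgroup.mem_centralizer_iff.1 h.1 a ha, mul_assoc]

theorem P_inf_BB : pCore p G ⊓ k.c.BB = pCore p G ⊓ Subgroup.centralizer (k.W : Set G) := by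
  ext g
  simp only [Subgroup.mem_inf, k.c.BB_def, k.mem_cW]
  exact ⟨fun h => ⟨h.1, h.2.2, k.c.P_le_cV h.1⟩, fun h => ⟨h.1, k.c.P_le h.1, h.2.1⟩⟩

instance X_normal : (pCore p G ⊓ k.c.BB).Normal := by
  rw [k.P_inf_BB]
  infer_instance

theorem W_le_X : k.W ≤ pCore p G ⊓ k.c.BB := by
  refine le_inf k.W_le_P (sup_le (le_inf k.c.W0_le_S ?_) (le_inf k.c.Vv_le_S k.Vv_comm_W0))
  exact Subgroup.le_centralizer_iff.1 (k.c.W0_le_cJ.trans (Subgroup.centralizer_le k.c.W0_le_Jt))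

/-- `C_G(O_p(G) ∩ B) ≤ O_p(G) ∩ B`. -/
theorem centralizer_X_le :
    Subgroup.centralizer ((pCore p G ⊓ k.c.BB : Subgroup G) : Set G) ≤ pCore p G ⊓ k.c.BB := by
  set X := pCore p G ⊓ k.c.BB with hX
  haveI : X.Normal := by rw [hX]; infer_instance
  set D := Subgroup.centralizer (X : Set G) with hD
  haveI : D.Normal := Subgroup.normal_centralizer (H := X)
  have hDP : D ⊓ pCore p G ≤ X := fun g hg => by
    rw [hX, k.P_inf_BB]
    exact ⟨hg.2, Subgroup.centralizer_le k.W_le_X hg.1⟩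
  have hDp : IsPGroup p D := by
    rintro ⟨g, hg⟩
    set a := (orderOf g).factorization p
    set m := orderOf g / p ^ a with hm
    refine ⟨a, Subtype.ext (show g ^ p ^ a = 1 from ?_)⟩
    set d := g ^ p ^ a with hd
    have hdD : d ∈ D := pow_mem hg _
    have hdm : d ^ m = 1 := by
      rw [hd, ← pow_mul, hm, Nat.ordProj_mul_ordCompl_eq_self, pow_orderOf_eq_one]
    have hdc : d ∈ Subgroup.centralizer (pCore p G : Set G) := by
      refine Subgroup.mem_centralizer_iff.2 fun x hx => ?_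
      set z := d * x * d⁻¹ * x⁻¹ with hz
      have hzD : z ∈ D := by
        rw [hz, show d * x * d⁻¹ * x⁻¹ = d * (x * d⁻¹ * x⁻¹) by group]
        exact mul_mem hdD (Subgroup.Normal.conj_mem inferInstance _ (inv_mem hdD) x)
      have hzP : z ∈ pCore p G := by
        rw [hz]
        exact mul_mem (Subgroup.Normal.conj_mem inferInstance _ hx d) (inv_mem hx)
      have hzX : z ∈ X := hDP ⟨hzD, hzP⟩
      have hzd : d * z * d⁻¹ = z := by
        rw [← Subgroup.mem_centralizer_iff.1 hdD z hzX, mul_inv_cancel_right]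
      have hn : ∀ n : ℕ, d ^ n * x * (d ^ n)⁻¹ = z ^ n * x := by
        intro n
        induction n with
        | zero => simp
        | succ n ih =>
          calc d ^ (n + 1) * x * (d ^ (n + 1))⁻¹ = d * (d ^ n * x * (d ^ n)⁻¹) * d⁻¹ := by
                rw [pow_succ' d n]; group
            _ = d * z ^ n * d⁻¹ * (z * x) := by rw [ih, hz]; group
            _ = z ^ (n + 1) * x := by
                rw [← conj_pow, hzd, pow_succ]
                exact (mul_assoc _ _ _).symm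
      have hzm : z ^ m = 1 := by
        have h := hn m
        rw [hdm] at h
        simpa using h.symm
      obtain ⟨j, hj⟩ := Cores.pCore_isPGroup p ⟨z, hzP⟩
      have hzj : z ^ p ^ j = 1 := congrArg Subtype.val hj
      have hco : Nat.Coprime m (p ^ j) := by
        refine Nat.Coprime.pow_right _ (Nat.Coprime.symm ?_)
        rw [hp.out.coprime_iff_not_dvd, hm]
        exact Nat.not_dvd_ordCompl hp.out (orderOf_pos g).ne'
      have hz1 : z = 1 := orderOf_eq_one_iff.1 (Nat.eq_one_of_dvd_coprimes hco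
        (orderOf_dvd_of_pow_eq_one hzm) (orderOf_dvd_of_pow_eq_one hzj))
      calc x * d = z * (x * d) := by rw [hz1, one_mul]
        _ = d * x := by rw [hz]; group
    have hdX : d ∈ X := hDP ⟨hdD, k.c.hcon hdc⟩
    obtain ⟨j, hj⟩ := Cores.pCore_isPGroup p ⟨d, hdX.1⟩
    refine orderOf_eq_one_iff.1 (Nat.eq_one_of_dvd_coprimes ?_
      (orderOf_dvd_of_pow_eq_one hdm) (orderOf_dvd_of_pow_eq_one (congrArg Subtype.val hj : d ^ p ^ j = 1)))
    refine Nat.Coprime.pow_right _ (Nat.Coprime.symm ?_)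
    rw [hp.out.coprime_iff_not_dvd, hm]
    exact Nat.not_dvd_ordCompl hp.out (orderOf_pos g).ne'
  exact fun g hg => hDP ⟨hg, Cores.le_pCore hDp hg⟩

section Elements

variable {y : G} (hy : y ∈ k.c.BB)
include hy

theorem fix_W0 (v : ↥k.c.Vv) (hv : ∀ i, k.d.vec i v 1 = 0) : k.cn y v = v :=
  Subtype.ext (by
    rw [MulAut.conjNormal_apply, ← Subgroup.mem_centralizer_iff.1 hy.2 v ((k.mem_W0_iff v).2 hv),
      mul_inv_cancel_right])

/-- An element of `B(S)` fixes the second coordinates. -/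
theorem BB_snd (i : Fin k.d.r) (v : ↥k.c.Vv) : k.d.vec i (k.cn y v) 1 = k.d.vec i v 1 := by
  classical
  obtain ⟨a, ha, ha'⟩ := k.exists_pure i 1
  have hmem : y * a * y⁻¹ ∈ k.c.Jt :=
    (Subgroup.mem_normalizer_iff.1 (k.c.S_le_normalizer_Jt hy.1) a).1 a.2
  set a' : ↥k.c.Jt := ⟨y * a * y⁻¹, hmem⟩ with ha'def
  have hrel : ∀ (j : Fin k.d.r) (w : ↥k.c.Vv),
      (k.par j a').toAdd * k.d.vec j (k.cn y w) 1 = (k.par j a).toAdd * k.d.vec j w 1 := by
    intro j w
    have hfix : k.cn y (k.cn (a : G) w * w⁻¹) = k.cn (a : G) w * w⁻¹ := k.fix_W0 hy _ fun l => by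
      rw [k.d.vec_mul, k.d.vec_inv, k.vec_J]
      simp
    have h2 : k.cn (a' : G) (k.cn y w) * (k.cn y w)⁻¹ = k.cn (a : G) w * w⁻¹ := by
      rw [← k.cn_mul, show (a' : G) * y = y * a by simp [ha'def], k.cn_mul, ← map_inv, ← map_mul, hfix]
    have h3 := congrArg (fun z => k.d.vec j z 0) h2
    simpa [k.d.vec_mul, k.d.vec_inv, k.vec_J] using h3
  have hb0 : (k.par i a').toAdd ≠ 0 := fun h0 => by
    obtain ⟨w, hw⟩ := k.d.surjΨ fun _ => ![0, 1]
    have h := hrel i w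
    have hw1 : k.d.vec i w 1 = 1 := by simp [Data.vec, hw]
    rw [h0, ha, hw1] at h
    simp at h
  set b := (k.par i a').toAdd with hb
  have hstep : ∀ w : ↥k.c.Vv, b * k.d.vec i (k.cn y w) 1 = k.d.vec i w 1 := fun w => by
    rw [hrel i w, ha, one_mul]
  have hn : ∀ (n : ℕ) (w : ↥k.c.Vv), b ^ n * k.d.vec i (k.cn (y ^ n) w) 1 = k.d.vec i w 1 := by
    intro n
    induction n with
    | zero => intro w; simp [cn]
    | succ n ih =>
      intro w
      rw [pow_succ b, mul_assoc, pow_succ' y, k.cn_mul, hstep, ih]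
  obtain ⟨m, hm⟩ := k.c.hSp ⟨y, hy.1⟩
  have hym : y ^ p ^ m = 1 := congrArg Subtype.val hm
  obtain ⟨w, hw⟩ := k.d.surjΨ fun _ => ![0, 1]
  have hw1 : k.d.vec i w 1 = 1 := by simp [Data.vec, hw]
  have hbp : b ^ p ^ m = 1 := by
    have h := hn (p ^ m) w
    rw [hym] at h
    simpa [cn, hw1] using h
  have hb1 : b = 1 := by
    haveI : CharP (k.d.F i) p := k.d.chr i
    have h : (b - 1) ^ p ^ m = 0 := by rw [sub_pow_char_pow, hbp, one_pow, sub_self]
    exact sub_eq_zero.1 (eq_zero_of_pow_eq_zero h)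
  simpa [hb1] using hstep v

/-- An element of `B(S)` acts as a transvection in every coordinate. -/
theorem BB_fst (i : Fin k.d.r) :
    ∃ l : k.d.F i, ∀ v : ↥k.c.Vv,
      k.d.vec i (k.cn y v) 0 = k.d.vec i v 0 + l * k.d.vec i v 1 := by
  classical
  obtain ⟨e, he, he'⟩ := k.d.surjΦ i (lMat 1)
  set e' : ↥k.d.E := ⟨y * e * y⁻¹, k.d.E_normal.conj_mem _ e.2 y⟩ with he'def
  have hrel : ∀ v : ↥k.c.Vv,
      (k.d.Φ i e' : Matrix (Fin 2) (Fin 2) (k.d.F i)) 1 0 * k.d.vec i (k.cn y v) 0 +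
        (k.d.Φ i e' : Matrix (Fin 2) (Fin 2) (k.d.F i)) 1 1 * k.d.vec i v 1 =
      k.d.vec i v 0 + k.d.vec i v 1 := by
    intro v
    have h2 : k.cn (e' : G) (k.cn y v) = k.cn y (k.cn (e : G) v) := by
      rw [← k.cn_mul, ← k.cn_mul, show (e' : G) * y = y * e by simp [he'def]]
    have h3 : k.d.vec i (k.cn (e' : G) (k.cn y v)) 1 = k.d.vec i (k.cn y (k.cn (e : G) v)) 1 :=
      congrArg (fun z => k.d.vec i z 1) h2
    rw [k.BB_snd hy, show k.cn (e' : G) (k.cn y v) = MulAut.conjNormal (e' : G) (k.cn y v) from rfl,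
      k.d.vec_conj, show k.cn (e : G) v = MulAut.conjNormal (e : G) v from rfl, k.d.vec_conj, he] at h3
    simpa [Matrix.mulVec, dotProduct, Fin.sum_univ_two, lMat, k.BB_snd hy] using h3
  set c := (k.d.Φ i e' : Matrix (Fin 2) (Fin 2) (k.d.F i)) 1 0
  set d := (k.d.Φ i e' : Matrix (Fin 2) (Fin 2) (k.d.F i)) 1 1
  have hc : c = 1 := by
    obtain ⟨v, hv⟩ := k.d.surjΨ fun _ => ![1, 0]
    have hv0 : k.d.vec i v 0 = 1 := by simp [Data.vec, hv]
    have hv1 : ∀ j, k.d.vec j v 1 = 0 := fun j => by simp [Data.vec, hv]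
    have h := hrel v
    rw [k.fix_W0 hy v hv1, hv0, hv1 i] at h
    simpa using h
  refine ⟨1 - d, fun v => ?_⟩
  have h := hrel v
  rw [hc, one_mul] at h
  linear_combination h

/-- An element of `B(S)` agrees on `V` with an element of `J(S)`. -/
theorem exists_J : ∃ a : ↥k.c.Jt, y * (a : G)⁻¹ ∈ Subgroup.centralizer (k.c.Vv : Set G) := by
  choose l hl using fun i => k.BB_fst hy i
  obtain ⟨a, ha⟩ := k.exists_par l
  refine ⟨a, k.stab_le ⟨fun i v => ?_, fun v hv => ?_⟩⟩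
  · obtain ⟨w, rfl⟩ : ∃ w, k.cn (a : G) w = v := (k.cn (a : G)).surjective v
    show k.d.vec i (k.cn (y * (a : G)⁻¹) (k.cn (a : G) w)) = _
    rw [k.cn_mul, k.cn_inv', k.vec_J]
    funext b
    fin_cases b
    · simp [hl i w, ha i]
    · simp [k.BB_snd hy]
  · have h0 : ∀ i, k.d.vec i v 1 = 0 := fun i => by rw [k.d.vec_eq_zero.2 (hv i)]; rfl
    have hav : k.cn (a : G) v = v := Subtype.ext (by
      rw [MulAut.conjNormal_apply,
        Subgroup.mem_centralizer_iff.1 (k.c.W0_le_cJ ((k.mem_W0_iff v).2 h0)) a a.2, mul_inv_cancel_right])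
    show k.cn (y * (a : G)⁻¹) v = v
    conv_lhs => rw [← hav]
    rw [k.cn_mul, k.cn_inv', k.fix_W0 hy v h0]

end Elements

theorem BB_le_E : k.c.BB ≤ k.d.E := fun y hy => by
  obtain ⟨a, ha⟩ := k.exists_J hy
  have h := mul_mem (k.d.cV_le ha) (k.Jt_le_E a.2)
  rwa [inv_mul_cancel_right] at h

theorem Φ_BB (i : Fin k.d.r) {e : ↥k.d.E} (he : (e : G) ∈ k.c.BB) :
    k.d.Φ i e ∈ (Linear.uSL (F := k.d.F i)).range := by
  obtain ⟨a, ha⟩ := k.exists_J he
  have h1 := k.Φ_of_cV (e := ⟨_, k.d.cV_le ha⟩) ha i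
  have he' : e = ⟨_, k.d.cV_le ha⟩ * ⟨a, k.Jt_le_E a.2⟩ :=
    Subtype.ext (inv_mul_cancel_right (e : G) (a : G)).symm
  rw [he', map_mul, h1, one_mul]
  exact k.hU i ⟨a, k.Jt_le_E a.2⟩ a.2

end CData

end Cfsg.Agent.Lib.CharTransfer57
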