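import Cfsg.Agent.Lib.PGroups.Thompson
import Cfsg.Prelude.Def_PLocal

/-!
# Subgroups invariant under the automorphism group of a fixed subgroup
-/

set_option autoImplicit false

namespace Cfsg.Agent.Lib.CharTransfer57

open Cfsg

variable {G : Type*} [Group G] {X S : Subgroup G}

/-- `X ≤ S` is invariant under every automorphism of `S`. -/
def CharIn (X S : Subgroup G) : Prop :=
  X ≤ S ∧ ∀ (φ : MulAut ↥S) (x : ↥S), (x : G) ∈ X → (φ x : G) ∈ X

theorem CharIn.characteristic (h : CharIn X S) : (X.subgroupOf S).Characteristic :=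
  Subgroup.characteristic_iff_le_comap.mpr fun φ x hx => h.2 φ x hx

theorem CharIn.ne_bot (h : CharIn X S) (hX : X ≠ ⊥) : X.subgroupOf S ≠ ⊥ := fun he => hX (by
  rw [← Subgroup.map_subgroupOf_eq_of_le h.1, he, Subgroup.map_bot])

theorem charIn_self (S : Subgroup G) : CharIn S S := ⟨le_rfl, fun φ x _ => (φ x).2⟩

theorem charIn_map {K : Subgroup ↥S} (h : K.Characteristic) : CharIn (K.map S.subtype) S := by
  refine ⟨Subgroup.map_subtype_le _, fun φ x hx => ?_⟩
  obtain ⟨y, hy, he⟩ := hx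
  obtain rfl : y = x := Subtype.ext he
  exact ⟨φ y, Subgroup.characteristic_iff_le_comap.mp h φ hy, rfl⟩

theorem CharIn.normalizer_le (h : CharIn X S) :
    Subgroup.normalizer (S : Set G) ≤ Subgroup.normalizer (X : Set G) := by
  have key : ∀ g ∈ Subgroup.normalizer (S : Set G), ∀ x ∈ X, g * x * g⁻¹ ∈ X := by
    intro g hg x hx
    have h' := h.2 (Subgroup.normalizerMonoidHom S ⟨g, hg⟩) ⟨x, h.1 hx⟩ hx
    exact h'
  intro g hg
  refine Subgroup.mem_normalizer_iff.2 fun x => ⟨key g hg x, fun hx => ?_⟩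
  have h' := key g⁻¹ (inv_mem hg) _ hx
  simpa [mul_assoc] using h'

theorem CharIn.le_normalizer (h : CharIn X S) : S ≤ Subgroup.normalizer (X : Set G) :=
  Subgroup.le_normalizer.trans h.normalizer_le

/-- The restriction of an automorphism of `S` to `X`. -/
def CharIn.restrict (h : CharIn X S) (φ : MulAut ↥S) : MulAut ↥X where
  toFun x := ⟨φ ⟨x, h.1 x.2⟩, h.2 φ _ x.2⟩
  invFun x := ⟨φ.symm ⟨x, h.1 x.2⟩, h.2 φ.symm _ x.2⟩
  left_inv x := by simp
  right_inv x := by simp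
  map_mul' x y := Subtype.ext (by
    show ((φ (⟨x, h.1 x.2⟩ * ⟨y, h.1 y.2⟩) : ↥S) : G) = _
    rw [map_mul]; rfl)

theorem CharIn.trans {Y : Subgroup G} (h : CharIn Y X) (h' : CharIn X S) : CharIn Y S :=
  ⟨h.1.trans h'.1, fun φ x hx => h.2 (h'.restrict φ) ⟨x, h.1 hx⟩ hx⟩

theorem CharIn.inf_centralizer (h : CharIn X S) :
    CharIn (S ⊓ Subgroup.centralizer (X : Set G)) S := by
  refine ⟨inf_le_left, fun φ x hx => ⟨(φ x).2, ?_⟩⟩
  refine Subgroup.mem_centralizer_iff.2 fun a ha => ?_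
  have h1 := h.2 φ.symm ⟨a, h.1 ha⟩ ha
  have h2 := Subgroup.mem_centralizer_iff.1 hx.2 _ h1
  have h3 : φ.symm ⟨a, h.1 ha⟩ * x = x * φ.symm ⟨a, h.1 ha⟩ := Subtype.ext h2
  have h4 := congrArg (fun y => ((φ y : ↥S) : G)) h3
  simpa using h4

theorem CharIn.inf {Y : Subgroup G} (h : CharIn X S) (h' : CharIn Y S) : CharIn (X ⊓ Y) S :=
  ⟨inf_le_left.trans h.1, fun φ x hx => ⟨h.2 φ x hx.1, h'.2 φ x hx.2⟩⟩

theorem CharIn.omega (h : CharIn X S) (p : ℕ) : CharIn (omegaOne p X) S := by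
  have hle : omegaOne p X ≤ S := (Subgroup.closure_le _).2 fun x hx => h.1 hx.1
  refine ⟨hle, fun φ x hx => ?_⟩
  have key : ∀ y (hy : y ∈ omegaOne p X), (φ ⟨y, hle hy⟩ : G) ∈ omegaOne p X := by
    intro y hy
    induction hy using Subgroup.closure_induction with
    | mem y hy =>
      refine Subgroup.subset_closure ⟨h.2 φ _ hy.1, ?_⟩
      rw [← SubmonoidClass.coe_pow, ← map_pow,
        show (⟨y, hle (Subgroup.subset_closure hy)⟩ : ↥S) ^ p = 1 from Subtype.ext hy.2, map_one]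
      rfl
    | one =>
      rw [show (⟨1, hle (one_mem _)⟩ : ↥S) = 1 from rfl, map_one]
      exact one_mem _
    | mul a b ha hb iha ihb =>
      rw [show (⟨a * b, hle (mul_mem ha hb)⟩ : ↥S) = ⟨a, hle ha⟩ * ⟨b, hle hb⟩ from rfl, map_mul]
      exact mul_mem iha ihb
    | inv a ha iha =>
      rw [show (⟨a⁻¹, hle (inv_mem ha)⟩ : ↥S) = (⟨a, hle ha⟩)⁻¹ from rfl, map_inv]
      exact inv_mem iha
  exact key x hx

theorem charIn_thompson (p : ℕ) (S : Subgroup G) : CharIn (thompsonSubgroupOf p S) S :=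
  charIn_map inferInstance

theorem charIn_omegaCenter (p : ℕ) (S : Subgroup G) :
    CharIn (omegaOne p (S ⊓ Subgroup.centralizer (S : Set G))) S :=
  ((charIn_self S).inf_centralizer).omega p

theorem charIn_centerThompson (p : ℕ) (S : Subgroup G) : CharIn (centerThompsonOf p S) S := by
  have h := (charIn_thompson p S).inf (charIn_thompson p S).inf_centralizer
  rwa [← inf_assoc, inf_eq_left.2 (charIn_thompson p S).1] at h

end Cfsg.Agent.Lib.CharTransfer57
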