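import Cfsg.Agent.Lib.LAEven57.PushingUp.Psl
import Cfsg.Agent.Lib.Linear.Unipotent
import Mathlib.GroupTheory.Sylow

/-!
# Natural `SL₂` components on an abelian normal subgroup

`Data p S V` records a normal subgroup `E ≥ C(V)`, homomorphisms of `E` onto `SL₂(F i)` with
independent images and compatible independent projections of `V` onto the natural modules `(F i)²`,
the common kernel being centralised by `E`.
-/

set_option autoImplicit false
set_option linter.unusedSectionVars false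

namespace Cfsg.Agent.Lib.CharTransfer57

open Cfsg.Agent.Lib.LAEven57.PushingUp (SL2)
open Cfsg.Agent.Lib

variable {G : Type*} [Group G]

/-- The natural components. -/
structure Data (p : ℕ) (S V : Subgroup G) [V.Normal] where
  r : ℕ
  F : Fin r → Type
  fld : ∀ i, Field (F i)
  fin : ∀ i, Fintype (F i)
  chr : ∀ i, CharP (F i) p
  E : Subgroup G
  E_normal : E.Normal
  cV_le : Subgroup.centralizer (V : Set G) ≤ E
  Φ : ∀ i, ↥E →* SL2 (F i)
  Ψ : ∀ i, ↥V →* Multiplicative (Fin 2 → F i)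
  equiv : ∀ (i : Fin r) (e : ↥E) (v : ↥V), (Ψ i (MulAut.conjNormal (e : G) v)).toAdd =
    ((Φ i e : SL2 (F i)) : Matrix (Fin 2) (Fin 2) (F i)).mulVec (Ψ i v).toAdd
  surjΨ : ∀ f : ∀ i, Fin 2 → F i, ∃ v : ↥V, ∀ i, (Ψ i v).toAdd = f i
  kerΨ : ∀ v : ↥V, (∀ i, Ψ i v = 1) → ∀ e ∈ E, e * (v : G) = (v : G) * e
  surjΦ : ∀ (i : Fin r) (g : SL2 (F i)), ∃ e : ↥E, Φ i e = g ∧ ∀ j, j ≠ i → Φ j e = 1
  trans : ∀ i j, ∃ t ∈ S, ∀ e e' : ↥E, (e' : G) = t * e * t⁻¹ → (Φ i e = 1 ↔ Φ j e' = 1)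

attribute [instance] Data.fld Data.fin Data.chr Data.E_normal

namespace Data

variable {p : ℕ} {S V : Subgroup G} [V.Normal] (d : Data p S V)

/-- The coordinates of a vector. -/
def vec (i : Fin d.r) (v : ↥V) : Fin 2 → d.F i := (d.Ψ i v).toAdd

theorem vec_mul (i : Fin d.r) (v w : ↥V) : d.vec i (v * w) = d.vec i v + d.vec i w := by
  simp [vec]

theorem vec_inv (i : Fin d.r) (v : ↥V) : d.vec i v⁻¹ = -d.vec i v := by
  simp [vec]

theorem vec_one (i : Fin d.r) : d.vec i 1 = 0 := by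
  simp [vec]

theorem vec_eq_zero {i : Fin d.r} {v : ↥V} : d.vec i v = 0 ↔ d.Ψ i v = 1 :=
  ⟨fun h => Multiplicative.toAdd.injective (by simpa [vec] using h), fun h => by simp [vec, h]⟩

/-- The element `conj e v`. -/
theorem vec_conj (i : Fin d.r) (e : ↥d.E) (v : ↥V) :
    d.vec i (MulAut.conjNormal (e : G) v) = (d.Φ i e : Matrix (Fin 2) (Fin 2) (d.F i)).mulVec (d.vec i v) :=
  d.equiv i e v

theorem exists_Φ (g : ∀ i, SL2 (d.F i)) : ∃ e : ↥d.E, ∀ i, d.Φ i e = g i := by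
  classical
  have key : ∀ s : Finset (Fin d.r), ∃ e : ↥d.E, ∀ i, d.Φ i e = if i ∈ s then g i else 1 := by
    intro s
    induction s using Finset.induction with
    | empty => exact ⟨1, fun i => by simp⟩
    | @insert a s has ih =>
      obtain ⟨e, he⟩ := ih
      obtain ⟨e', he', he''⟩ := d.surjΦ a (g a)
      refine ⟨e' * e, fun i => ?_⟩
      rw [map_mul, he i]
      by_cases hia : i = a
      · subst hia
        simp [he', has]
      · rw [he'' i hia, one_mul]
        simp [hia]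
  obtain ⟨e, he⟩ := key Finset.univ
  exact ⟨e, fun i => by simpa using he i⟩

/-- The subgroup stabilising the series `1 ≤ ker ≤ V`. -/
def stab : Subgroup G where
  carrier := {g | (∀ (i : Fin d.r) (v : ↥V), d.vec i (MulAut.conjNormal g v) = d.vec i v) ∧
    ∀ v : ↥V, (∀ i, d.Ψ i v = 1) → MulAut.conjNormal g v = v}
  one_mem' := ⟨fun i v => by rw [map_one]; rfl, fun v _ => by rw [map_one]; rfl⟩
  mul_mem' := by
    intro a b ha hb
    refine ⟨fun i v => ?_, fun v hv => ?_⟩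
    · rw [map_mul, MulAut.mul_apply, ha.1, hb.1]
    · rw [map_mul, MulAut.mul_apply, hb.2 v hv, ha.2 v hv]
  inv_mem' := by
    intro a ha
    refine ⟨fun i v => ?_, fun v hv => ?_⟩
    · conv_rhs => rw [← (MulAut.conjNormal a).apply_symm_apply v]
      rw [ha.1]
      rw [map_inv]
      rfl
    · conv_lhs => rw [← ha.2 v hv]
      rw [map_inv, MulAut.inv_apply, MulEquiv.symm_apply_apply]

theorem mem_stab_of_Φ {e : ↥d.E} (h : ∀ i, d.Φ i e = 1) : (e : G) ∈ d.stab := by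
  refine ⟨fun i v => ?_, fun v hv => Subtype.ext ?_⟩
  · rw [d.vec_conj, h i]
    simp
  · rw [MulAut.conjNormal_apply, d.kerΨ v hv e e.2, mul_inv_cancel_right]

theorem Φ_eq_one_of_stab {e : ↥d.E} (h : (e : G) ∈ d.stab) (i : Fin d.r) : d.Φ i e = 1 := by
  refine Subtype.ext ?_
  rw [Matrix.SpecialLinearGroup.coe_one, ← Matrix.mulVec_injective.eq_iff]
  funext f
  classical
  obtain ⟨v, hv⟩ := d.surjΨ (Function.update 0 i f)
  have h1 := h.1 i v
  rw [d.vec_conj] at h1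
  simp only [vec, hv i, Function.update_self] at h1
  rw [h1, Matrix.one_mulVec]

/-- Change of coordinates. -/
noncomputable def twist (g : ∀ i, SL2 (d.F i)) : Data p S V where
  r := d.r
  F := d.F
  fld := d.fld
  fin := d.fin
  chr := d.chr
  E := d.E
  E_normal := d.E_normal
  cV_le := d.cV_le
  Φ i := ((MulAut.conj (g i)⁻¹).toMonoidHom).comp (d.Φ i)
  Ψ i := (AddMonoidHom.toMultiplicative
    (Matrix.mulVecLin ((g i)⁻¹ : SL2 (d.F i)).1).toAddMonoidHom).comp (d.Ψ i)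
  equiv i e v := by
    simp only [MonoidHom.comp_apply, AddMonoidHom.toMultiplicative_apply_apply, toAdd_ofAdd,
      LinearMap.toAddMonoidHom_coe, Matrix.mulVecLin_apply, d.equiv, Matrix.mulVec_mulVec]
    congr 1
    show ((g i)⁻¹ * d.Φ i e : SL2 (d.F i)).1 = ((g i)⁻¹ * d.Φ i e * (g i)⁻¹⁻¹ * (g i)⁻¹ : SL2 (d.F i)).1
    congr 1
    simp only [inv_inv, mul_inv_cancel_right]
    rfl
  surjΨ f := by
    obtain ⟨v, hv⟩ := d.surjΨ fun i => (g i).1.mulVec (f i)
    refine ⟨v, fun i => ?_⟩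
    simp only [MonoidHom.comp_apply, AddMonoidHom.toMultiplicative_apply_apply, toAdd_ofAdd,
      LinearMap.toAddMonoidHom_coe, Matrix.mulVecLin_apply, hv i, Matrix.mulVec_mulVec,
      ← Matrix.SpecialLinearGroup.coe_mul, inv_mul_cancel, Matrix.SpecialLinearGroup.coe_one,
      Matrix.one_mulVec]
  kerΨ v hv := d.kerΨ v fun i => by
    have h := congrArg Multiplicative.toAdd (hv i)
    simp only [MonoidHom.comp_apply, AddMonoidHom.toMultiplicative_apply_apply, toAdd_ofAdd,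
      LinearMap.toAddMonoidHom_coe, Matrix.mulVecLin_apply, toAdd_one] at h
    refine Multiplicative.toAdd.injective ?_
    have h2 := congrArg (fun w => (g i).1.mulVec w) h
    simpa only [Matrix.mulVec_mulVec, ← Matrix.SpecialLinearGroup.coe_mul, mul_inv_cancel,
      Matrix.SpecialLinearGroup.coe_one, Matrix.one_mulVec, Matrix.mulVec_zero, toAdd_one] using h2
  surjΦ i x := by
    obtain ⟨e, he, he'⟩ := d.surjΦ i (g i * x * (g i)⁻¹)
    refine ⟨e, ?_, fun j hj => ?_⟩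
    · show (g i)⁻¹ * d.Φ i e * (g i)⁻¹⁻¹ = x
      rw [he]; group
    · show (g j)⁻¹ * d.Φ j e * (g j)⁻¹⁻¹ = 1
      rw [he' j hj]; group
  trans i j := by
    obtain ⟨t, ht, h⟩ := d.trans i j
    refine ⟨t, ht, fun e e' he => ?_⟩
    show (MulAut.conj _ (d.Φ i e) = 1 ↔ MulAut.conj _ (d.Φ j e') = 1)
    rw [MulEquiv.map_eq_one_iff, MulEquiv.map_eq_one_iff]
    exact h e e' he

theorem twist_Φ (g : ∀ i, SL2 (d.F i)) (i : Fin d.r) (e : ↥d.E) :
    (d.twist g).Φ i e = (g i)⁻¹ * d.Φ i e * g i := by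
  show (g i)⁻¹ * d.Φ i e * (g i)⁻¹⁻¹ = _
  rw [inv_inv]

open scoped Pointwise in
/-- Coordinates in which a given `p`-subgroup is upper unitriangular. -/
theorem exists_upper [Finite G] [Fact p.Prime] {J : Subgroup G} (hJ : IsPGroup p J) :
    ∃ d' : Data p S V, d'.E = d.E ∧ ∀ (i : Fin d'.r) (e : ↥d'.E), (e : G) ∈ J →
      d'.Φ i e ∈ (Linear.uSL (F := d'.F i)).range := by
  have hg : ∀ i, ∃ g : SL2 (d.F i), ∀ e : ↥d.E, (e : G) ∈ J →
      g⁻¹ * d.Φ i e * g ∈ (Linear.uSL (F := d.F i)).range := by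
    intro i
    obtain ⟨P, hP⟩ := ((hJ.comap_subtype (K := d.E)).map (d.Φ i)).exists_le_sylow
    obtain ⟨g, hg⟩ := Linear.exists_sylow_eq_conj_SL p P
    refine ⟨g, fun e he => ?_⟩
    have h := hP ⟨e, he, rfl⟩
    rw [hg, Subgroup.mem_pointwise_smul_iff_inv_smul_mem] at h
    simpa [mul_assoc] using h
  choose g hg using hg
  exact ⟨d.twist g, rfl, fun i e he => by
    have h := hg i e he
    show (g i)⁻¹ * d.Φ i e * (g i)⁻¹⁻¹ ∈ _
    rwa [inv_inv]⟩

end Data

end Cfsg.Agent.Lib.CharTransfer57
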