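import Cfsg.Agent.Lib.CharTransfer57.Setting
import Cfsg.Agent.Lib.CharTransfer57.Data

/-!
# The action of `J(S)` and the Baumann subgroup on the natural components
-/

set_option autoImplicit false
set_option linter.unusedSectionVars false

namespace Cfsg.Agent.Lib.CharTransfer57

open Cfsg
open Cfsg.Agent.Lib
open Cfsg.Agent.Lib.LAEven57.PushingUp (SL2 uMat lMat wMat)

universe u

/-- The setting together with adapted components. -/
structure CData (G : Type u) [Group G] [Finite G] (p : ℕ) [Fact p.Prime] where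
  c : Ctx G p
  d : Data p c.SS c.Vv
  hJE : thompsonSubgroup p G ≤ d.E
  hU : ∀ (i : Fin d.r) (e : ↥d.E), (e : G) ∈ c.Jt → d.Φ i e ∈ (Linear.uSL (F := d.F i)).range

namespace CData

variable {G : Type u} [Group G] [Finite G] {p : ℕ} [hp : Fact p.Prime] (k : CData G p)

/-- Conjugation on `V`. -/
noncomputable abbrev cn (g : G) : MulAut ↥k.c.Vv := MulAut.conjNormal g

theorem cn_mul (g h : G) (v : ↥k.c.Vv) : k.cn (g * h) v = k.cn g (k.cn h v) := by
  simp only [cn, map_mul, MulAut.mul_apply]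

theorem cn_inv (g : G) (v : ↥k.c.Vv) : k.cn g (k.cn g⁻¹ v) = v := by
  rw [← k.cn_mul, mul_inv_cancel, cn, map_one, MulAut.one_apply]

theorem cn_inv' (g : G) (v : ↥k.c.Vv) : k.cn g⁻¹ (k.cn g v) = v := by
  rw [← k.cn_mul, inv_mul_cancel, cn, map_one, MulAut.one_apply]

theorem mulVec_uSL {F : Type} [Field F] (t : Multiplicative F) (f : Fin 2 → F) :
    ((Linear.uSL t : SL2 F) : Matrix (Fin 2) (Fin 2) F).mulVec f = ![f 0 + t.toAdd * f 1, f 1] := by
  rw [Linear.coe_uSL]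
  funext a
  fin_cases a <;> simp [Matrix.mulVec, dotProduct, Fin.sum_univ_two]

theorem uSL_eq_one {F : Type} [Field F] {t : Multiplicative F} : Linear.uSL t = 1 ↔ t.toAdd = 0 :=
  ⟨fun h => by rw [Linear.uSL_injective (h.trans (map_one _).symm)]; rfl,
    fun h => by rw [show t = 1 from Multiplicative.toAdd.injective h, map_one]⟩

/-- The common kernel is the fixed subgroup of `E`. -/
theorem ker_iff (v : ↥k.c.Vv) :
    (∀ i, k.d.Ψ i v = 1) ↔ ∀ e ∈ k.d.E, e * (v : G) = (v : G) * e := by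
  refine ⟨k.d.kerΨ v, fun h i => k.d.vec_eq_zero.1 ?_⟩
  have hfix : ∀ g : SL2 (k.d.F i), (g : Matrix (Fin 2) (Fin 2) (k.d.F i)).mulVec (k.d.vec i v) =
      k.d.vec i v := by
    intro g
    obtain ⟨e, he, -⟩ := k.d.surjΦ i g
    have h' : k.cn (e : G) v = v := Subtype.ext (by
      rw [MulAut.conjNormal_apply, h e e.2, mul_inv_cancel_right])
    rw [← he, ← k.d.vec_conj, h']
  have h1 := congrFun (hfix (uMat 1)) 0
  have h2 := congrFun (hfix (lMat 1)) 1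
  simp [uMat, lMat, Matrix.mulVec, dotProduct, Fin.sum_univ_two] at h1 h2
  funext a
  fin_cases a
  · exact h2
  · exact h1

theorem cn_fix_ker (g : G) (v : ↥k.c.Vv) (hv : ∀ i, k.d.Ψ i v = 1) :
    ∀ i, k.d.Ψ i (k.cn g v) = 1 := by
  rw [k.ker_iff] at hv ⊢
  intro e he
  have h := hv _ (k.d.E_normal.conj_mem' e he g)
  rw [MulAut.conjNormal_apply]
  calc e * (g * v * g⁻¹) = g * (g⁻¹ * e * g * v) * g⁻¹ := by group
    _ = g * (v * (g⁻¹ * e * g)) * g⁻¹ := by rw [h]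
    _ = _ := by group

instance stab_normal : (k.d.stab).Normal := by
  refine ⟨fun a ha g => ⟨fun i v => ?_, fun v hv => ?_⟩⟩
  · obtain ⟨w, rfl⟩ : ∃ w, k.cn g w = v := (k.cn g).surjective v
    have hker : ∀ j, k.d.Ψ j (k.cn a w * w⁻¹) = 1 := fun j => k.d.vec_eq_zero.1 (by
      rw [k.d.vec_mul, ha.1 j w, k.d.vec_inv, add_neg_cancel])
    have h := k.cn_fix_ker g _ hker i
    rw [map_mul, map_inv, ← k.d.vec_eq_zero, k.d.vec_mul, k.d.vec_inv, add_neg_eq_zero] at h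
    rw [map_mul, map_mul, map_inv, MulAut.mul_apply, MulAut.mul_apply, MulAut.inv_apply,
      MulEquiv.symm_apply_apply]
    exact h
  · have h := ha.2 _ (k.cn_fix_ker g⁻¹ v hv)
    show k.cn (g * a * g⁻¹) v = v
    rw [k.cn_mul, k.cn_mul, h]
    exact k.cn_inv g v

theorem cV_le_stab : Subgroup.centralizer (k.c.Vv : Set G) ≤ k.d.stab := by
  intro a ha
  have h : ∀ v : ↥k.c.Vv, k.cn a v = v := fun v => Subtype.ext (by
    rw [MulAut.conjNormal_apply, ← Subgroup.mem_centralizer_iff.1 ha v v.2, mul_inv_cancel_right])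
  exact ⟨fun i v => by rw [show MulAut.conjNormal a v = v from h v], fun v _ => h v⟩

theorem pow_mem_cV {a : G} (ha : a ∈ k.d.stab) : a ^ p ∈ Subgroup.centralizer (k.c.Vv : Set G) := by
  refine Subgroup.mem_centralizer_iff.2 fun w hw => ?_
  set v : ↥k.c.Vv := ⟨w, hw⟩
  set z := k.cn a v * v⁻¹ with hz
  have hker : ∀ j, k.d.Ψ j z = 1 := fun j => k.d.vec_eq_zero.1 (by
    rw [hz, k.d.vec_mul, ha.1 j v, k.d.vec_inv, add_neg_cancel])
  have hfix : k.cn a z = z := ha.2 z hker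
  have hstep : k.cn a v = z * v := by rw [hz, inv_mul_cancel_right]
  have hn : ∀ n : ℕ, k.cn (a ^ n) v = z ^ n * v := by
    intro n
    induction n with
    | zero => simp
    | succ n ih =>
      rw [pow_succ', k.cn_mul, ih, map_mul, map_pow, hfix, hstep, pow_succ]
      exact (mul_assoc _ _ _).symm
  have hp1 : z ^ p = 1 := Subtype.ext (k.c.Vv_pow z.2)
  have h := congrArg Subtype.val (hn p)
  rw [hp1, one_mul, MulAut.conjNormal_apply] at h
  show w * a ^ p = a ^ p * w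
  calc w * a ^ p = a ^ p * w * (a ^ p)⁻¹ * a ^ p := by rw [h]
    _ = a ^ p * w := by group

theorem stab_le : k.d.stab ≤ Subgroup.centralizer (k.c.Vv : Set G) := by
  set C := Subgroup.centralizer (k.c.Vv : Set G)
  set N := k.d.stab
  have hq : IsPGroup p (↥N ⧸ C.subgroupOf N) := by
    rintro ⟨⟨x, hx⟩⟩
    exact ⟨1, by
      rw [pow_one]
      exact (QuotientGroup.eq_one_iff (N := C.subgroupOf N) (⟨x, hx⟩ ^ p)).2 (k.pow_mem_cV hx)⟩
  obtain ⟨j, hj⟩ := IsPGroup.iff_card.1 hq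
  have hrel : C.relIndex N = p ^ j := hj
  have hle := PLocal.le_sup_inf_of_relIndex k.c.S k.cV_le_stab hrel
  have hNM : N ≤ k.c.M := hle.trans (sup_le k.c.cV_le_M (inf_le_left.trans k.c.hSM))
  exact hle.trans (sup_le le_rfl ((k.c.inf_le_of_normal hNM).trans k.c.P_le_cV))

theorem mem_cV_of_Φ {e : ↥k.d.E} (h : ∀ i, k.d.Φ i e = 1) :
    (e : G) ∈ Subgroup.centralizer (k.c.Vv : Set G) :=
  k.stab_le (k.d.mem_stab_of_Φ h)

theorem Φ_of_cV {e : ↥k.d.E} (h : (e : G) ∈ Subgroup.centralizer (k.c.Vv : Set G)) (i : Fin k.d.r) :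
    k.d.Φ i e = 1 :=
  k.d.Φ_eq_one_of_stab (k.cV_le_stab h) i

theorem Jt_le_E : k.c.Jt ≤ k.d.E := k.c.Jt_le_thompson.trans k.hJE

theorem Φ_J {a : G} (ha : a ∈ k.c.Jt) (i : Fin k.d.r) :
    ∃ t : k.d.F i, k.d.Φ i ⟨a, k.Jt_le_E ha⟩ = Linear.uSL (Multiplicative.ofAdd t) := by
  obtain ⟨t, ht⟩ := k.hU i ⟨a, k.Jt_le_E ha⟩ ha
  exact ⟨t.toAdd, ht.symm⟩

/-- The parameter of an element of `J(S)`. -/
noncomputable def par (i : Fin k.d.r) : ↥k.c.Jt →* Multiplicative (k.d.F i) :=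
  (MonoidHom.ofInjective (Linear.uSL_injective (F := k.d.F i))).symm.toMonoidHom.comp
    (((k.d.Φ i).comp (Subgroup.inclusion k.Jt_le_E)).codRestrict _
      fun a => k.hU i ⟨a, k.Jt_le_E a.2⟩ a.2)

theorem uSL_par (i : Fin k.d.r) (a : ↥k.c.Jt) :
    Linear.uSL (k.par i a) = k.d.Φ i ⟨a, k.Jt_le_E a.2⟩ := by
  have h := (MonoidHom.ofInjective (Linear.uSL_injective (F := k.d.F i))).apply_symm_apply
    ⟨k.d.Φ i ⟨a, k.Jt_le_E a.2⟩, k.hU i ⟨a, k.Jt_le_E a.2⟩ a.2⟩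
  exact congrArg Subtype.val h

theorem par_eq_one (i : Fin k.d.r) (a : ↥k.c.Jt) :
    k.par i a = 1 ↔ k.d.Φ i ⟨a, k.Jt_le_E a.2⟩ = 1 := by
  rw [← k.uSL_par, uSL_eq_one]
  exact ⟨fun h => by rw [h]; rfl, fun h => Multiplicative.toAdd.injective h⟩

/-- Second coordinate. -/
noncomputable def snd (i : Fin k.d.r) : ↥k.c.Vv →* Multiplicative (k.d.F i) :=
  MonoidHom.mk' (fun v => Multiplicative.ofAdd (k.d.vec i v 1)) fun v w => by
    rw [k.d.vec_mul, Pi.add_apply, ofAdd_add]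

theorem snd_eq_one (i : Fin k.d.r) (v : ↥k.c.Vv) : k.snd i v = 1 ↔ k.d.vec i v 1 = 0 :=
  ⟨fun h => congrArg Multiplicative.toAdd h, fun h => congrArg Multiplicative.ofAdd h⟩

/-- The action of `a ∈ J(S)`. -/
theorem vec_J (i : Fin k.d.r) (a : ↥k.c.Jt) (v : ↥k.c.Vv) :
    k.d.vec i (k.cn (a : G) v) = ![k.d.vec i v 0 + (k.par i a).toAdd * k.d.vec i v 1, k.d.vec i v 1] := by
  rw [show k.cn (a : G) v = MulAut.conjNormal ((⟨a, k.Jt_le_E a.2⟩ : ↥k.d.E) : G) v from rfl,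
    k.d.vec_conj, ← k.uSL_par, mulVec_uSL]

section MaxA

variable {A : Subgroup G} (hA : A ∈ PGroups.maxElemAbIn p k.c.SS)
include hA

theorem A_le_Jt : A ≤ k.c.Jt := PGroups.le_thompsonSubgroupOf hA

open Classical in
/-- Everything about a largest elementary abelian subgroup of `S`. -/
theorem max_data :
    (A ⊓ pCore p G) ⊔ k.c.Vv ∈ PGroups.maxElemAbIn p k.c.SS ∧
    (∀ v : ↥k.c.Vv, (∀ i, (∃ a : ↥k.c.Jt, (a : G) ∈ A ∧ k.par i a ≠ 1) → k.d.vec i v 1 = 0) →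
      (v : G) ∈ A) ∧
    (∀ f : ∀ i, k.d.F i, ∃ a : ↥k.c.Jt, (a : G) ∈ A ∧ ∀ i,
      (k.par i a).toAdd = if (∃ a : ↥k.c.Jt, (a : G) ∈ A ∧ k.par i a ≠ 1) then f i else 0) := by
  set I : Fin k.d.r → Prop := fun i => ∃ a : ↥k.c.Jt, (a : G) ∈ A ∧ k.par i a ≠ 1 with hI
  set Q := ∀ i : {i : Fin k.d.r // I i}, Multiplicative (k.d.F i) with hQ
  let τ : ↥A →* Q := MonoidHom.pi fun i => (k.par i).comp (Subgroup.inclusion (k.A_le_Jt hA))
  let σ : ↥k.c.Vv →* Q := MonoidHom.pi fun i => k.snd i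
  -- the kernel of `τ`
  have hτ : τ.ker = (A ⊓ pCore p G).subgroupOf A := by
    ext ⟨a, ha⟩
    rw [MonoidHom.mem_ker, Subgroup.mem_subgroupOf, Subgroup.mem_inf]
    refine ⟨fun h => ⟨ha, ?_⟩, fun h => funext fun i => ?_⟩
    · rw [← k.c.S_inf_cV]
      refine ⟨hA.1 ha, k.mem_cV_of_Φ (e := ⟨a, k.Jt_le_E (k.A_le_Jt hA ha)⟩) fun i => ?_⟩
      rw [← k.par_eq_one i ⟨a, k.A_le_Jt hA ha⟩]
      by_cases hi : I i
      · exact congrFun h ⟨i, hi⟩
      · exact not_not.1 fun hne => hi ⟨⟨a, k.A_le_Jt hA ha⟩, ha, hne⟩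
    · exact (k.par_eq_one i _).2 (k.Φ_of_cV (e := ⟨a, k.Jt_le_E (k.A_le_Jt hA ha)⟩) (k.c.P_le_cV h.2) i)
  have hσ : Function.Surjective σ := by
    intro q
    obtain ⟨v, hv⟩ := k.d.surjΨ fun i => ![0, if h : I i then (q ⟨i, h⟩).toAdd else 0]
    refine ⟨v, funext fun i => ?_⟩
    show Multiplicative.ofAdd ((k.d.Ψ i v).toAdd 1) = q i
    rw [hv]
    simp [i.2]
  -- `A ∩ V ≤ ker σ`
  have hfix : (A ⊓ k.c.Vv).subgroupOf k.c.Vv ≤ σ.ker := by
    intro v hv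
    refine funext fun i => ?_
    obtain ⟨a, haA, hane⟩ := i.2
    have hcomm : k.cn (a : G) v = v := Subtype.ext (by
      rw [MulAut.conjNormal_apply, show (a : G) * v = v * a from PGroups.elemAb_comm hA.2.1 haA hv.1,
        mul_inv_cancel_right])
    have h := congrFun (k.vec_J i a v) 0
    rw [hcomm] at h
    simp only [Matrix.cons_val_zero] at h
    show k.snd i v = 1
    rw [k.snd_eq_one]
    rcases mul_eq_zero.1 (left_eq_add.1 h) with h' | h'
    · exact absurd (Multiplicative.toAdd.injective h') hane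
    · exact h'
  -- counting
  have hAcard : Nat.card ↥A = Nat.card ↥τ.range * Nat.card ↥(A ⊓ pCore p G) := by
    rw [Subgroup.card_eq_card_quotient_mul_card_subgroup τ.ker,
      Nat.card_congr (QuotientGroup.quotientKerEquivRange τ).toEquiv, hτ,
      Nat.card_congr (Subgroup.subgroupOfEquivOfLe (inf_le_left : A ⊓ pCore p G ≤ A)).toEquiv]
  have hVcard : Nat.card ↥k.c.Vv = Nat.card Q * Nat.card ↥σ.ker := by
    rw [Subgroup.card_eq_card_quotient_mul_card_subgroup σ.ker,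
      Nat.card_congr (QuotientGroup.quotientKerEquivOfSurjective σ hσ).toEquiv]
  have hle1 : Nat.card ↥τ.range ≤ Nat.card Q := Nat.card_le_card_of_injective _ Subtype.val_injective
  have hle2 : Nat.card ↥(A ⊓ k.c.Vv) ≤ Nat.card ↥σ.ker := by
    rw [← Nat.card_congr (Subgroup.subgroupOfEquivOfLe (inf_le_right : A ⊓ k.c.Vv ≤ k.c.Vv)).toEquiv]
    exact Subgroup.card_le_of_le hfix
  have hX : IsElementaryAbelian p ((A ⊓ pCore p G) ⊔ k.c.Vv : Subgroup G) :=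
    PGroups.elemAb_sup (PGroups.elemAb_mono hA.2.1 inf_le_left) k.c.Vv_elem fun a ha v hv =>
      (Subgroup.mem_centralizer_iff.1 (k.c.P_le_cV ha.2) v hv).symm
  have hXle : (A ⊓ pCore p G) ⊔ k.c.Vv ≤ k.c.SS := sup_le (inf_le_left.trans hA.1) k.c.Vv_le_S
  have hmax := hA.2.2 _ hXle hX
  have hsup := PLocal.card_sup_mul_card_inf (H := A ⊓ pCore p G) (K := k.c.Vv)
    (le_top.trans (Subgroup.normalizer_eq_top_iff.2 k.c.Vv_normal).ge)
  rw [inf_assoc, inf_eq_right.2 k.c.Vv_le_P] at hsup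
  have hpos : 0 < Nat.card ↥(A ⊓ pCore p G) := Nat.card_pos
  have hpos2 : 0 < Nat.card Q := Nat.card_pos
  have hpos3 : 0 < Nat.card ↥(A ⊓ k.c.Vv) := Nat.card_pos
  have hpos4 : 0 < Nat.card ↥τ.range := Nat.card_pos
  have hchain : Nat.card Q * Nat.card ↥σ.ker ≤ Nat.card ↥τ.range * Nat.card ↥(A ⊓ k.c.Vv) := by
    refine Nat.le_of_mul_le_mul_left ?_ hpos
    rw [← hVcard, ← hsup, ← mul_assoc, mul_comm (Nat.card ↥(A ⊓ pCore p G)) (Nat.card ↥τ.range), ← hAcard]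
    exact Nat.mul_le_mul_right _ hmax
  have hr : Nat.card ↥τ.range = Nat.card Q := le_antisymm hle1
    (Nat.le_of_mul_le_mul_right (hchain.trans' (Nat.mul_le_mul_left _ hle2)) hpos3)
  have hk : Nat.card ↥(A ⊓ k.c.Vv) = Nat.card ↥σ.ker := by
    refine le_antisymm hle2 (Nat.le_of_mul_le_mul_left ?_ hpos2)
    rw [hr] at hchain
    exact hchain
  refine ⟨⟨hXle, hX, fun B hB hB' => (hA.2.2 B hB hB').trans ?_⟩, fun v hv => ?_, fun f => ?_⟩
  · refine Nat.le_of_mul_le_mul_right (le_of_eq ?_) hpos3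
    rw [hsup, hAcard, hr, hk, hVcard]
    ring
  · have heq : (A ⊓ k.c.Vv).subgroupOf k.c.Vv = σ.ker := Subgroup.eq_of_le_of_card_ge hfix (by
      rw [Nat.card_congr (Subgroup.subgroupOfEquivOfLe (inf_le_right : A ⊓ k.c.Vv ≤ k.c.Vv)).toEquiv, hk])
    have hvk : v ∈ σ.ker := funext fun i => (k.snd_eq_one i v).2 (hv i i.2)
    rw [← heq] at hvk
    exact hvk.1
  · have htop : τ.range = ⊤ := Subgroup.eq_top_of_card_eq _ hr
    obtain ⟨⟨a, ha⟩, hae⟩ : (fun i => Multiplicative.ofAdd (f i.1) : Q) ∈ τ.range := by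
      rw [htop]; exact Subgroup.mem_top _
    refine ⟨⟨a, k.A_le_Jt hA ha⟩, ha, fun i => ?_⟩
    split_ifs with hi
    · exact congrArg Multiplicative.toAdd (congrFun hae ⟨i, hi⟩)
    · rw [show k.par i ⟨a, k.A_le_Jt hA ha⟩ = 1 from not_not.1 fun hne => hi ⟨_, ha, hne⟩]
      rfl

end MaxA

theorem exists_moved (i : Fin k.d.r) :
    ∃ A ∈ PGroups.maxElemAbIn p k.c.SS, ∃ a : ↥k.c.Jt, (a : G) ∈ A ∧ k.par i a ≠ 1 := by
  by_contra hcon
  push Not at hcon
  have hall : ∀ a : ↥k.c.Jt, k.par i a = 1 := by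
    have hle : k.c.Jt ≤ (k.par i).ker.map k.c.Jt.subtype := by
      show thompsonSubgroupOf p k.c.SS ≤ _
      rw [PGroups.thompsonSubgroupOf_eq]
      exact sSup_le fun A hA a ha => ⟨⟨a, k.A_le_Jt hA ha⟩, hcon A hA _ ha, rfl⟩
    intro a
    obtain ⟨b, hb, hba⟩ := hle a.2
    rw [← show b = a from Subtype.ext hba]
    exact hb
  obtain ⟨a, ha, haP⟩ := SetLike.not_le_iff_exists.1 k.c.Jt_not_le_P
  refine haP ?_
  rw [← k.c.S_inf_cV]
  refine ⟨k.c.Jt_le ha, k.mem_cV_of_Φ (e := ⟨a, k.Jt_le_E ha⟩) fun j => ?_⟩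
  obtain ⟨t, ht, htr⟩ := k.d.trans j i
  have ha' : t * a * t⁻¹ ∈ k.c.Jt :=
    (Subgroup.mem_normalizer_iff.1 (k.c.S_le_normalizer_Jt ht) a).1 ha
  exact (htr ⟨a, k.Jt_le_E ha⟩ ⟨_, k.Jt_le_E ha'⟩ rfl).2 ((k.par_eq_one i ⟨_, ha'⟩).1 (hall _))

open Classical in
theorem exists_pure (i : Fin k.d.r) (t : k.d.F i) :
    ∃ a : ↥k.c.Jt, (k.par i a).toAdd = t ∧ ∀ j, j ≠ i → k.par j a = 1 := by
  obtain ⟨A, hA, hmv⟩ := k.exists_moved i
  obtain ⟨a, -, ha⟩ := (k.max_data hA).2.2 (Function.update 0 i t)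
  refine ⟨a, ?_, fun j hj => Multiplicative.toAdd.injective ?_⟩
  · rw [ha i, if_pos hmv, Function.update_self]
  · rw [ha j, Function.update_of_ne hj]
    simp

theorem exists_par (f : ∀ i, k.d.F i) : ∃ a : ↥k.c.Jt, ∀ i, (k.par i a).toAdd = f i := by
  classical
  have key : ∀ s : Finset (Fin k.d.r),
      ∃ a : ↥k.c.Jt, ∀ i, (k.par i a).toAdd = if i ∈ s then f i else 0 := by
    intro s
    induction s using Finset.induction with
    | empty => exact ⟨1, fun i => by simp⟩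
    | @insert j s hj ih =>
      obtain ⟨a, ha⟩ := ih
      obtain ⟨b, hb, hb'⟩ := k.exists_pure j (f j)
      refine ⟨b * a, fun i => ?_⟩
      rw [map_mul, toAdd_mul, ha i]
      by_cases hij : i = j
      · subst hij
        simp [hb, hj]
      · rw [hb' i hij]
        simp [hij]
  obtain ⟨a, ha⟩ := key Finset.univ
  exact ⟨a, fun i => by simpa using ha i⟩

theorem Vv_le_Jt : k.c.Vv ≤ k.c.Jt := by
  obtain ⟨A, hA⟩ := PGroups.maxElemAbIn_nonempty p k.c.SS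
  exact le_sup_right.trans (PGroups.le_thompsonSubgroupOf (k.max_data hA).1)

theorem W0_le_P : k.c.W0 ≤ pCore p G := by
  rw [← k.c.S_inf_cV]
  exact le_inf k.c.W0_le_S (k.c.W0_le_cJ.trans (Subgroup.centralizer_le k.Vv_le_Jt))

theorem mem_W0_iff (v : ↥k.c.Vv) : (v : G) ∈ k.c.W0 ↔ ∀ i, k.d.vec i v 1 = 0 := by
  refine ⟨fun h i => ?_, fun h => ?_⟩
  · obtain ⟨a, ha, -⟩ := k.exists_pure i 1
    have hc : k.cn (a : G) v = v := Subtype.ext (by
      rw [MulAut.conjNormal_apply, Subgroup.mem_centralizer_iff.1 (k.c.W0_le_cJ h) a a.2,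
        mul_inv_cancel_right])
    have h' := congrFun (k.vec_J i a v) 0
    rw [hc, ha] at h'
    simpa using h'
  · have hall : ∀ A ∈ PGroups.maxElemAbIn p k.c.SS, (v : G) ∈ A := fun A hA =>
      (k.max_data hA).2.1 v fun i _ => h i
    refine k.c.mem_W0 (k.c.Vv_le_S v.2) (k.c.Vv_pow v.2) fun a ha => ?_
    refine Subgroup.mem_centralizer_singleton_iff.1 ?_
    refine (show k.c.Jt ≤ Subgroup.centralizer ({(v : G)} : Set G) from ?_) ha
    show thompsonSubgroupOf p k.c.SS ≤ _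
    rw [PGroups.thompsonSubgroupOf_eq]
    exact sSup_le fun A hA x hx =>
      Subgroup.mem_centralizer_singleton_iff.2 (PGroups.elemAb_comm hA.2.1 hx (hall A hA))

end CData

end Cfsg.Agent.Lib.CharTransfer57
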