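import Cfsg.Agent.Lib.CharTransfer57.Push
import Cfsg.Agent.Lib.ConjFunctor.Fixed
import Cfsg.Agent.Lib.ConjFunctor.Degree

/-!
# An element of `J(S)` of small degree on the chief factors inside `O_p(G)`
-/

set_option autoImplicit false
set_option linter.unusedSectionVars false
set_option linter.style.haveILetI false

namespace Cfsg.Agent.Lib.CharTransfer57

open Cfsg
open Cfsg.Agent.Lib
open Cfsg.Agent.Lib.ConjFunctor.Degree (dd)

universe u

namespace CData

variable {G : Type u} [Group G] [Finite G] {p : ℕ} [hp : Fact p.Prime] (k : CData G p)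

theorem dd_W {v x : G} (hv : v ∈ k.c.BB) (hx : x ∈ k.W) : dd v x ∈ k.c.W0 := by
  obtain ⟨a, ha, u, hu, rfl⟩ := Subgroup.mem_sup_of_normal_right.1 hx
  have hva : v * a = a * v := (Subgroup.mem_centralizer_iff.1 hv.2 a ha).symm
  have hd : dd v u ∈ k.c.W0 := by
    have h := (k.mem_W0_iff (k.cn v ⟨u, hu⟩ * (⟨u, hu⟩ : ↥k.c.Vv)⁻¹)).2 fun i => by
      rw [k.d.vec_mul, k.d.vec_inv, Pi.add_apply, k.BB_snd hv, Pi.neg_apply, add_neg_cancel]
    exact h
  have h : dd v (a * u) = a * dd v u * a⁻¹ := by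
    show v * (a * u) * v⁻¹ * (a * u)⁻¹ = _
    rw [← mul_assoc v a u, hva]
    simp only [dd]
    group
  rw [h]
  exact mul_mem (mul_mem ha hd) (inv_mem ha)

/-- An element of `B(S)` acting quadratically on `O_p(G) ⊓ B(S)` modulo `W0` has degree less than `p`
inside `O_p(G)`. -/
theorem smallDegree_of (hp2 : p ≠ 2) {v : G} (hvB : v ∈ k.c.BB)
    (hdd : ∀ x ∈ pCore p G ⊓ k.c.BB, dd v (dd v x) ∈ k.c.W0) :
    ConjFunctor.Fixed.SmallDegree p v (pCore p G) := by
  intro U Y hUY hUP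
  obtain ⟨-, hUn, hYn, hmin⟩ := id hUY
  have hab : ⁅U, U⁆ ≤ Y :=
    (ConjFunctor.Chief.chief_elementary hUY ((Cores.pCore_isPGroup p).to_le hUP)).1
  refine ConjFunctor.Degree.iterCommutator_le_of_forall U Y v hab fun x hx => ?_
  suffices h2 : ∀ x ∈ U, (dd v)^[2] x ∈ Y by
    obtain ⟨n, hn⟩ : ∃ n, p - 1 = n + 2 := ⟨p - 3, by have := hp.out.two_le; omega⟩
    rw [hn, Function.iterate_add_apply]
    exact ConjFunctor.Degree.dd_iter_mem v (h2 x hx) n
  have hXn : (pCore p G ⊓ k.c.BB).Normal := inferInstance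
  have hcase : ∀ N : Subgroup G, N.Normal → U ⊓ N ≤ Y ∨ U ⊓ N ⊔ Y = U := fun N hN => by
    haveI : (U ⊓ N).Normal := Subgroup.normal_inf_normal U N
    rcases hmin (U ⊓ N ⊔ Y) (Subgroup.sup_normal _ _) le_sup_right (sup_le inf_le_left hUY.1.le) with h | h
    · exact Or.inl (le_sup_left.trans h.le)
    · exact Or.inr h
  have hlift : ∀ N : Subgroup G, U ⊓ N ⊔ Y = U → (∀ x ∈ U ⊓ N, (dd v)^[2] x ∈ Y) →
      ∀ x ∈ U, (dd v)^[2] x ∈ Y := fun N hN h x hx => by
    haveI := hYn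
    rw [← hN] at hx
    obtain ⟨a, ha, b, hb, rfl⟩ := Subgroup.mem_sup_of_normal_right.1 hx
    refine (QuotientGroup.eq_one_iff _).1 ?_
    show QuotientGroup.mk' Y ((dd v)^[2] (a * b)) = 1
    rw [ConjFunctor.Degree.iter_mul_equiv U Y v hab 2 ha.1 (hUY.1.le hb),
      show QuotientGroup.mk' Y ((dd v)^[2] a) = 1 from (QuotientGroup.eq_one_iff _).2 (h a ha),
      show QuotientGroup.mk' Y ((dd v)^[2] b) = 1 from
        (QuotientGroup.eq_one_iff _).2 (ConjFunctor.Degree.dd_iter_mem v hb 2), one_mul]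
  rcases hcase _ hXn with h1 | h1
  · intro x hx
    have hm : dd v x ∈ U ⊓ (pCore p G ⊓ k.c.BB) := by
      refine ⟨ConjFunctor.Degree.dd_mem v hx, ConjFunctor.Degree.dd_mem v (hUP hx), ?_⟩
      show v * x * v⁻¹ * x⁻¹ ∈ k.c.BB
      rw [mul_assoc (v * x) v⁻¹ x⁻¹, mul_assoc v x, ← mul_assoc x v⁻¹]
      exact mul_mem hvB ((Subgroup.mem_normalizer_iff.1
        (k.c.S_le_normalizer_BB (k.c.P_le (hUP hx))) v⁻¹).1 (inv_mem hvB))
    exact ConjFunctor.Degree.dd_mem v (h1 hm)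
  refine hlift _ h1 ?_
  rcases hcase k.W inferInstance with h2 | h2
  · intro x hx
    exact h2 ⟨ConjFunctor.Degree.dd_iter_mem v hx.1 2, le_sup_left (b := k.c.Vv) (hdd x hx.2)⟩
  · intro x hx
    refine hlift _ h2 (fun y hy => ?_) x hx.1
    show dd v (dd v y) ∈ Y
    have h := k.dd_W hvB hy.2
    have hc : v * dd v y = dd v y * v := (Subgroup.mem_centralizer_iff.1 hvB.2 _ h).symm
    have he : dd v (dd v y) = 1 := by
      show v * dd v y * v⁻¹ * (dd v y)⁻¹ = 1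
      rw [hc, mul_inv_cancel_right, mul_inv_cancel]
    rw [he]
    exact one_mem Y

/-- Some element of `S` outside `O_p(G)` has degree less than `p` inside `O_p(G)`, if no nontrivial
characteristic subgroup of `S` is normal. -/
theorem exists_smallDegree (hp2 : p ≠ 2)
    (hchar : ∀ X : Subgroup G, CharIn X k.c.SS → X ≠ ⊥ → ¬ X.Normal) :
    ∃ v ∈ k.c.SS, v ∉ pCore p G ∧ ConjFunctor.Fixed.SmallDegree p v (pCore p G) := by
  obtain ⟨v, hv, hvP⟩ := SetLike.not_le_iff_exists.1 k.c.Jt_not_le_P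
  exact ⟨v, k.c.Jt_le hv, hvP, k.smallDegree_of hp2 (k.c.Jt_le_BB hv) fun x hx =>
    k.dd_dd_mem hp2 hchar (k.c.Jt_le_BB hv) hx.2⟩

end CData

end Cfsg.Agent.Lib.CharTransfer57
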