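import Cfsg.Agent.Lib.CharTransfer57.FromCStar
import Cfsg.Agent.Lib.ConjFunctor.Failure

/-!
# Characteristic subgroups control transfer for odd primes, given the local `C**` theorem
-/

set_option autoImplicit false
set_option linter.unusedSectionVars false
set_option linter.style.haveILetI false

namespace Cfsg.Agent.Lib.CharTransfer57

open Cfsg
open Cfsg.Agent.Lib
open Cfsg.Agent.Lib.ConjFunctor

universe u

variable {p : ℕ} [hp : Fact p.Prime]

/-- All functors. -/
def allW (p : ℕ) : Set (∀ (Q : Type u) [Group Q], Subgroup Q) := {W | IsCharPFunctor.{u} p W}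

theorem allW_nonempty (p : ℕ) : (allW.{u} p).Nonempty :=
  ⟨fun Q _ => ⊤, fun Q _ _ _ _ => top_ne_bot,
    fun Q R _ _ _ _ φ => Subgroup.map_top_of_surjective _ φ.surjective⟩

/-- The functor of a characteristic subgroup of one group. -/
theorem exists_functor (p : ℕ) {T : Type u} [Group T] (X : Subgroup T) (hX : X.Characteristic)
    (hne : X ≠ ⊥) : ∃ W ∈ allW.{u} p, W T = X := by
  classical
  let W : ∀ (Q : Type u) [Group Q], Subgroup Q := fun Q _ =>
    if h : Nonempty (T ≃* Q) then X.map h.some.toMonoidHom else ⊤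
  have hkey : ∀ (Q : Type u) [Group Q] (e : T ≃* Q), W Q = X.map e.toMonoidHom := by
    intro Q _ e
    simp only [W]
    rw [dif_pos ⟨e⟩]
    set f := (⟨e⟩ : Nonempty (T ≃* Q)).some
    conv_lhs => rw [← Subgroup.characteristic_iff_map_eq.1 hX (e.trans f.symm)]
    rw [Subgroup.map_map]
    congr 1
    ext x
    simp
  refine ⟨W, ⟨fun Q _ _ _ hnt => ?_, fun Q R _ _ _ _ φ => ?_⟩, ?_⟩
  · by_cases h : Nonempty (T ≃* Q)
    · rw [hkey Q h.some]
      exact fun he => hne ((Subgroup.map_eq_bot_iff_of_injective _ h.some.injective).1 he)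
    · simp only [W]
      rw [dif_neg h]
      haveI := hnt
      exact top_ne_bot
  · by_cases h : Nonempty (T ≃* Q)
    · rw [hkey Q h.some, hkey R (h.some.trans φ), Subgroup.map_map]
      rfl
    · have h' : ¬ Nonempty (T ≃* R) := fun ⟨e⟩ => h ⟨e.trans φ.symm⟩
      simp only [W]
      rw [dif_neg h, dif_neg h']
      exact Subgroup.map_top_of_surjective _ φ.surjective
  · rw [hkey T (MulEquiv.refl T)]
    exact Subgroup.map_id X

/-- The data given by the local `C**` theorem. -/
def CStarHyp (p : ℕ) [Fact p.Prime] : Prop :=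
  ∀ (X : Type u) [Group X] [Finite X] (c : Ctx X p),
    ∃ (r : ℕ) (E : Fin r → Subgroup X), CStarShape p c.SS r E

theorem tr_all (hCS : CStarHyp.{u} p) (hp2 : p ≠ 2) (G : Type u) [Group G] [Finite G] :
    Section.Tr (allW.{u} p) p G := by
  have h𝓦 : ∀ W ∈ allW.{u} p, IsCharPFunctor.{u} p W := fun W hW => hW
  refine Failure.tr_induction (G := G) h𝓦 (fun K R _ hsub hquot => ?_) G (Section.IsSection.refl G)
  by_contra hfail
  obtain ⟨S⟩ := (inferInstance : Nonempty (Sylow p (↥K ⧸ R.subgroupOf K)))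
  have hne := allW_nonempty.{u} p
  set X := ↥K ⧸ R.subgroupOf K
  set D := Reach.trGen (Local.nFam (Section.indSet (allW.{u} p) X)) ⊤ (S : Subgroup X) ⊓ pCore p X
  have hS : (S : Subgroup X) ≠ ⊥ := fun h =>
    Failure.not_le_pCore h𝓦 hne hfail S (h.le.trans bot_le)
  have hchar : ∀ Y : Subgroup X, CharIn Y (S : Subgroup X) → Y ≠ ⊥ → ¬ Y.Normal :=
    fun Y hY hYne hn => by
      obtain ⟨W, hW, hWS⟩ := exists_functor p (Y.subgroupOf (S : Subgroup X)) hY.characteristic
        (hY.ne_bot hYne)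
      refine Failure.not_trAt h𝓦 hfail S (Failure.trAt_of_normalizer_eq_top S hW ?_)
      show Subgroup.normalizer ((((W ↥(S : Subgroup X))).map (S : Subgroup X).subtype : Subgroup X) : Set X) = ⊤
      rw [hWS, Subgroup.map_subgroupOf_eq_of_le hY.1]
      exact Subgroup.normalizer_eq_top_iff.2 hn
  let c : Ctx X p :=
    { S := S
      M := Subgroup.normalizer (D : Set X)
      hcon := Failure.constrained h𝓦 hsub hquot hfail
      hSM := Failure.le_normalizer_of_ne_top h𝓦 hne hsub hfail S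
        (Failure.sylow_ne_top h𝓦 hne hsub hfail S) le_rfl
      hM := Failure.normalizer_ne_top h𝓦 hne hsub hquot hfail S
      hover := fun H hSH hH => Failure.le_normalizer_of_ne_top h𝓦 hne hsub hfail S hH hSH
      hZ := hchar _ (charIn_omegaCenter p _) (PGroups.omegaOne_ne_bot (S.2.to_le inf_le_left) fun h => by
        haveI : Nontrivial ↥(S : Subgroup X) := (Subgroup.nontrivial_iff_ne_bot _).2 hS
        obtain ⟨z, hz, hz1⟩ := (Subgroup.nontrivial_iff_exists_ne_one _).1 S.2.center_nontrivial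
        refine hz1 (Subtype.ext (Subgroup.mem_bot.1 (h ▸ ⟨z.2, ?_⟩)))
        exact Subgroup.mem_centralizer_iff.2 fun s hs =>
          congrArg Subtype.val (Subgroup.mem_center_iff.1 hz ⟨s, hs⟩))
      hJ := hchar _ (charIn_thompson p _) (Frobenius.PComplement.thompsonSubgroupOf_ne_bot S.2 hS)
      hS := hS }
  obtain ⟨r, E, hE⟩ := hCS X c
  obtain ⟨v, hv, hvP, hdeg⟩ := c.exists_smallDegree hp2 hchar hE
  exact Failure.not_smallDegree h𝓦 hne hsub hquot hfail S hv hvP hdeg

/-- `S ∩ G'` is generated by the `S ∩ N(K)'`. -/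
theorem inf_commutator_eq (hCS : CStarHyp.{u} p) (hp2 : p ≠ 2) {G : Type u} [Group G] [Finite G]
    (S : Sylow p G) (hS : (S : Subgroup G) ≠ ⊥) :
    (S : Subgroup G) ⊓ commutator G =
      ⨆ K : {K : Subgroup ↥(S : Subgroup G) // K ≠ ⊥ ∧ K.Characteristic},
        (S : Subgroup G) ⊓ ⁅Subgroup.normalizer ((((K : Subgroup ↥(S : Subgroup G))).map
          (S : Subgroup G).subtype : Subgroup G) : Set G), Subgroup.normalizer
          ((((K : Subgroup ↥(S : Subgroup G))).map (S : Subgroup G).subtype : Subgroup G) : Set G)⁆ := by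
  refine le_antisymm ?_ (iSup_le fun K => inf_le_inf le_rfl ?_)
  swap
  · rw [_root_.commutator_def]
    exact Subgroup.commutator_mono le_top le_top
  have h := tr_all hCS hp2 G S
  rw [Reach.TrAt, Local.trGen_nFam, ← _root_.commutator_def] at h
  rw [h]
  refine iSup₂_le fun F hF => ?_
  obtain ⟨W, hW, rfl⟩ := hF
  haveI : Nontrivial ↥(S : Subgroup G) := (Subgroup.nontrivial_iff_ne_bot _).2 hS
  have hW' : IsCharPFunctor.{u} p W := hW
  have hK : W ↥(S : Subgroup G) ≠ ⊥ ∧ (W ↥(S : Subgroup G)).Characteristic :=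
    ⟨hW'.1 _ S.isPGroup' inferInstance,
      Subgroup.characteristic_iff_map_eq.2 fun φ => hW'.2 _ _ S.isPGroup' φ⟩
  refine le_iSup_of_le ⟨W ↥(S : Subgroup G), hK⟩ ?_
  simp only [top_inf_eq]
  exact le_rfl

end Cfsg.Agent.Lib.CharTransfer57
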