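import Cfsg.Agent.Lib.CharTransfer57.Degree

/-!
# The natural components from the local `C**` theorem
-/

set_option autoImplicit false
set_option linter.unusedSectionVars false
set_option linter.style.haveILetI false

namespace Cfsg.Agent.Lib.CharTransfer57

open Cfsg
open Cfsg.Agent.Lib
open Cfsg.Agent.Lib.LAEven57.PushingUp (SL2)

open scoped Pointwise

universe u

/-- The `SL₂` case of the conclusion of the local `C**` theorem. -/
structure CStarShape {G : Type u} [Group G] (p : ℕ) (T : Subgroup G) (r : ℕ)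
    (E : Fin r → Subgroup G) : Prop where
  sup_eq : (⨆ i, E i) = thompsonSubgroup p G ⊔
    Subgroup.centralizer (omegaOneCenter p (pCore p G) : Set G)
  conj : ∀ i j, ∃ t ∈ T, (E i).map (MulAut.conj t).toMonoidHom = E j
  gen : (omegaOneCenter p (pCore p G) ⊓ Subgroup.centralizer ((⨆ i, E i : Subgroup G) : Set G)) ⊔
    (⨆ i, ⁅omegaOneCenter p (pCore p G), E i⁆) = omegaOneCenter p (pCore p G)
  comm : ∀ i j, i ≠ j → ⁅⁅omegaOneCenter p (pCore p G), E i⁆, E j⁆ = ⊥
  acts : ∀ i, ∃ (F : Type) (_ : Field F) (_ : Fintype F) (n : ℕ), Fintype.card F = p ^ n ∧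
    ActsAsSL2OnSection F ⊤ (E i) ⁅omegaOneCenter p (pCore p G), E i⁆
      (⁅omegaOneCenter p (pCore p G), E i⁆ ⊓ Subgroup.centralizer ((E i : Subgroup G) : Set G))

namespace Ctx

variable {G : Type u} [Group G] [Finite G] {p : ℕ} [hp : Fact p.Prime] (c : Ctx G p)

theorem exists_data {r : ℕ} {E : Fin r → Subgroup G} (h : CStarShape p c.SS r E) :
    ∃ d : Data p c.SS c.Vv, thompsonSubgroup p G ≤ d.E := by
  classical
  choose F fF fiF n hn hnorm hle ρ ψ hρ hψs hψ1 hequ using h.acts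
  letI := fF
  letI := fiF
  set EE : Subgroup G := ⨆ i, E i with hEE
  have hJ : thompsonSubgroup p G ≤ EE := le_sup_left.trans h.sup_eq.ge
  have hcV : Subgroup.centralizer (c.Vv : Set G) ≤ EE := le_sup_right.trans h.sup_eq.ge
  haveI hEEn : EE.Normal := by
    rw [hEE, h.sup_eq]
    exact Subgroup.sup_normal (thompsonSubgroup p G) (Subgroup.centralizer (c.Vv : Set G))
  have hU : ∀ i, ⁅c.Vv, E i⁆ ≤ c.Vv := fun i => Subgroup.commutator_le_left _ _
  set X : Fin r → Subgroup G := fun i => c.Vv ⊓ Subgroup.centralizer (E i : Set G) with hX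
  have hUX : ∀ i j, j ≠ i → ⁅c.Vv, E j⁆ ≤ X i := fun i j hij =>
    le_inf (hU j) (Subgroup.commutator_eq_bot_iff_le_centralizer.1 (h.comm j i hij))
  have habel : ∀ a ∈ c.Vv, ∀ b ∈ c.Vv, a * b = b * a := fun a ha b hb =>
    PGroups.elemAb_comm c.Vv_elem ha hb
  have hsplit : ∀ i, c.Vv ≤ ⁅c.Vv, E i⁆ ⊔ X i := by
    intro i
    refine h.gen.ge.trans (sup_le ?_ (iSup_le fun j => ?_))
    · exact le_sup_of_le_right (inf_le_inf le_rfl (Subgroup.centralizer_le (le_iSup E i)))
    · rcases eq_or_ne j i with rfl | hij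
      · exact le_sup_left
      · exact le_sup_of_le_right (hUX i j hij)
  have hex : ∀ i (v : ↥c.Vv), ∃ u : ↥⁅c.Vv, E i⁆, (u : G)⁻¹ * v ∈ X i := by
    intro i v
    have hn' : ⁅c.Vv, E i⁆ ≤ Subgroup.normalizer (X i : Set G) := fun a ha =>
      Subgroup.mem_normalizer_iff.2 fun b => by
        constructor
        · intro hb
          rwa [habel a (hU i ha) b hb.1, mul_inv_cancel_right]
        · intro hb
          have hb' : b ∈ c.Vv := by
            have := mul_mem (mul_mem (inv_mem (hU i ha)) hb.1) (hU i ha)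
            simpa [mul_assoc] using this
          rwa [habel a (hU i ha) b hb', mul_inv_cancel_right] at hb
    have hv := hsplit i v.2
    rw [← SetLike.mem_coe, Subgroup.coe_mul_of_left_le_normalizer_right _ _ hn'] at hv
    obtain ⟨u, hu, x, hx, he⟩ := hv
    exact ⟨⟨u, hu⟩, by rw [← he]; simpa using hx⟩
  choose pr hpr using hex
  have hψX : ∀ i (u u' : ↥⁅c.Vv, E i⁆), (u : G)⁻¹ * u' ∈ X i → ψ i u = ψ i u' := by
    intro i u u' hm
    have h1 : ψ i (u⁻¹ * u') = 1 := (hψ1 i _).2 ⟨(u⁻¹ * u').2, hm.2⟩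
    rw [map_mul, map_inv] at h1
    exact inv_mul_eq_one.1 h1
  let Ψ : ∀ i, ↥c.Vv →* Multiplicative (Fin 2 → F i) := fun i =>
    MonoidHom.mk' (fun v => ψ i (pr i v)) fun v w => by
      show ψ i (pr i (v * w)) = ψ i (pr i v) * ψ i (pr i w)
      rw [← map_mul]
      refine hψX i _ _ ?_
      have hv := hpr i v
      have hw := hpr i w
      have hvw := hpr i (v * w)
      have key := mul_mem hvw (inv_mem (mul_mem hv hw))
      have hc : ((pr i (v * w) : G))⁻¹ * ((v * w : ↥c.Vv) : G) *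
          ((pr i v : G)⁻¹ * v * ((pr i w : G)⁻¹ * w))⁻¹ =
          (pr i (v * w) : G)⁻¹ * ((pr i v : G) * (pr i w : G)) := by
        have e1 : (pr i v : G)⁻¹ * v * ((pr i w : G)⁻¹ * w) =
            ((pr i v : G) * pr i w)⁻¹ * ((v : G) * w) := by
          rw [mul_inv_rev, habel (pr i w : G)⁻¹ (inv_mem (hU i (pr i w).2)) (pr i v : G)⁻¹
            (inv_mem (hU i (pr i v).2))]
          simp only [mul_assoc]
          congr 1
          rw [← mul_assoc (v : G), habel (v : G) v.2 _ (inv_mem (hU i (pr i w).2)), mul_assoc]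
        rw [e1]
        simp [mul_assoc]
      rw [hc] at key
      simpa using key
  have hΨ1 : ∀ i (v : ↥c.Vv), Ψ i v = 1 ↔ (v : G) ∈ X i := by
    intro i v
    show ψ i (pr i v) = 1 ↔ _
    rw [hψ1]
    constructor
    · intro hu
      have := mul_mem (show (pr i v : G) ∈ X i from ⟨hU i (pr i v).2, hu.2⟩) (hpr i v)
      simpa using this
    · intro hv
      refine ⟨(pr i v).2, ?_⟩
      have := mul_mem hv (inv_mem (hpr i v))
      simp only [mul_inv_rev, inv_inv, mul_inv_cancel_left] at this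
      exact this.2
  have hΨu : ∀ i (v : ↥c.Vv) (hv : (v : G) ∈ ⁅c.Vv, E i⁆), Ψ i v = ψ i ⟨v, hv⟩ := fun i v hv =>
    hψX i _ _ (hpr i v)
  have hsurjΨ : ∀ f : ∀ i, Fin 2 → F i, ∃ v : ↥c.Vv, ∀ i, (Ψ i v).toAdd = f i := by
    intro f
    have key : ∀ s : Finset (Fin r), ∃ v : ↥c.Vv, ∀ i, (Ψ i v).toAdd = if i ∈ s then f i else 0 := by
      intro s
      induction s using Finset.induction with
      | empty => exact ⟨1, fun i => by simp⟩
      | @insert a s has ih =>
        obtain ⟨v, hv⟩ := ih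
        obtain ⟨u, hu⟩ := hψs a (Multiplicative.ofAdd (f a))
        refine ⟨⟨u, hU a u.2⟩ * v, fun i => ?_⟩
        rw [map_mul, toAdd_mul, hv i]
        by_cases hia : i = a
        · subst hia
          rw [hΨu i ⟨u, hU i u.2⟩ u.2]
          simp [hu, has]
        · rw [(hΨ1 i ⟨u, hU a u.2⟩).2 (hUX i a (Ne.symm hia) u.2)]
          simp [hia]
    obtain ⟨v, hv⟩ := key Finset.univ
    exact ⟨v, fun i => by simpa using hv i⟩
  have hmove : ∀ (e : G) (v : ↥c.Vv),
      ((MulAut.conjNormal e v : ↥c.Vv) : G) * (v : G)⁻¹ = e * v * e⁻¹ * (v : G)⁻¹ := fun e v => by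
    rw [MulAut.conjNormal_apply]
  have hΦ : ∀ i (e : G), e ∈ EE → ∃ g : SL2 (F i), ∀ v : ↥c.Vv,
      (Ψ i (MulAut.conjNormal e v)).toAdd =
        (g : Matrix (Fin 2) (Fin 2) (F i)).mulVec (Ψ i v).toAdd := by
    intro i e he
    refine Subgroup.iSup_induction E (C := fun e => ∃ g : SL2 (F i), ∀ v : ↥c.Vv,
      (Ψ i (MulAut.conjNormal e v)).toAdd =
        (g : Matrix (Fin 2) (Fin 2) (F i)).mulVec (Ψ i v).toAdd) he (fun j e he => ?_)
      ⟨1, fun v => by rw [map_one]; simp⟩ ?_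
    · rcases eq_or_ne j i with rfl | hij
      · refine ⟨ρ j ⟨e, he⟩, fun v => ?_⟩
        obtain ⟨w, hw, hw'⟩ := hequ j ⟨e, he⟩ (pr j v)
        have h1 : Ψ j (MulAut.conjNormal e v) = ψ j w := by
          refine hψX j _ _ ?_
          have h2 := hpr j (MulAut.conjNormal e v)
          have h3 : e * ((pr j v : G)⁻¹ * v) * e⁻¹ = (pr j v : G)⁻¹ * v := by
            rw [Subgroup.mem_centralizer_iff.1 (hpr j v).2 e he, mul_inv_cancel_right]
          rw [MulAut.conjNormal_apply, show e * (v : G) * e⁻¹ = w * ((pr j v : G)⁻¹ * v) by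
            rw [← h3, hw]; group] at h2
          have h4 := mul_mem h2 (inv_mem (hpr j v))
          simpa [mul_assoc] using h4
        rw [h1]
        exact hw'
      · refine ⟨1, fun v => ?_⟩
        have h1 : Ψ i (MulAut.conjNormal e v * v⁻¹) = 1 := by
          rw [hΨ1, Subgroup.coe_mul, Subgroup.coe_inv, hmove]
          refine hUX i j hij ?_
          rw [Subgroup.commutator_comm]
          exact Subgroup.commutator_mem_commutator he v.2
        rw [map_mul, map_inv, mul_inv_eq_one] at h1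
        rw [h1]
        simp
    · rintro a b ⟨g, hg⟩ ⟨g', hg'⟩
      refine ⟨g * g', fun v => ?_⟩
      rw [map_mul, MulAut.mul_apply, hg, hg', Matrix.mulVec_mulVec, ← Matrix.SpecialLinearGroup.coe_mul]
  choose Φ0 hΦ0 using hΦ
  have huniq : ∀ i (g g' : SL2 (F i)), (∀ v : ↥c.Vv,
      (g : Matrix (Fin 2) (Fin 2) (F i)).mulVec (Ψ i v).toAdd =
        (g' : Matrix (Fin 2) (Fin 2) (F i)).mulVec (Ψ i v).toAdd) → g = g' := by
    intro i g g' hgg
    refine Subtype.ext (Matrix.mulVec_injective (funext fun f => ?_))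
    obtain ⟨v, hv⟩ := hsurjΨ (Function.update 0 i f)
    have h1 := hgg v
    rwa [hv i, Function.update_self] at h1
  let Φ : ∀ i, ↥EE →* SL2 (F i) := fun i => MonoidHom.mk' (fun e => Φ0 i e e.2) fun a b => by
    refine huniq i _ _ fun v => ?_
    rw [← hΦ0, Subgroup.coe_mul, map_mul, MulAut.mul_apply, hΦ0 i a a.2, hΦ0 i b b.2,
      Matrix.mulVec_mulVec, ← Matrix.SpecialLinearGroup.coe_mul]
  have hΦeq : ∀ i (e : ↥EE) (v : ↥c.Vv), (Ψ i (MulAut.conjNormal (e : G) v)).toAdd =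
      (Φ i e : Matrix (Fin 2) (Fin 2) (F i)).mulVec (Ψ i v).toAdd := fun i e v => hΦ0 i e e.2 v
  have hΦ1 : ∀ i (e : ↥EE), Φ i e = 1 ↔ ∀ v : ↥c.Vv, (e : G) * v * (e : G)⁻¹ * (v : G)⁻¹ ∈ X i := by
    intro i e
    have hiff : ∀ v : ↥c.Vv, (e : G) * v * (e : G)⁻¹ * (v : G)⁻¹ ∈ X i ↔
        Ψ i (MulAut.conjNormal (e : G) v) = Ψ i v := fun v => by
      rw [← mul_inv_eq_one (a := Ψ i _), ← map_inv, ← map_mul, hΨ1, Subgroup.coe_mul,
        Subgroup.coe_inv, hmove]
    refine ⟨fun he v => (hiff v).2 (Multiplicative.toAdd.injective (by rw [hΦeq, he]; simp)),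
      fun he => huniq i _ _ fun v => ?_⟩
    rw [← hΦeq, (hiff v).1 (he v)]
    simp
  have hchr : ∀ i, CharP (F i) p := by
    intro i
    obtain ⟨q, hq⟩ := CharP.exists (F i)
    haveI := hq
    obtain ⟨m, hm, hm'⟩ := FiniteField.card (F i) q
    have hdvd : q ∣ p ^ n i := hn i ▸ hm' ▸ dvd_pow_self q m.pos.ne'
    exact (Nat.prime_dvd_prime_iff_eq hm hp.out).1 (hm.dvd_of_dvd_pow hdvd) ▸ hq
  refine ⟨{
    r := r
    F := F
    fld := fF
    fin := fiF
    chr := hchr
    E := EE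
    E_normal := hEEn
    cV_le := hcV
    Φ := Φ
    Ψ := Ψ
    equiv := hΦeq
    surjΨ := hsurjΨ
    kerΨ := fun v hv e he => ?_
    surjΦ := fun i g => ?_
    trans := fun i j => ?_ }, hJ⟩
  · refine Subgroup.iSup_induction E (C := fun e => e * (v : G) = (v : G) * e) he
      (fun j e he => ?_) (by simp) ?_
    · exact Subgroup.mem_centralizer_iff.1 ((hΨ1 j v).1 (hv j)).2 e he
    · intro a b ha hb
      rw [mul_assoc, hb, ← mul_assoc, ha, mul_assoc]
  · obtain ⟨e, he⟩ : g ∈ (ρ i).range := hρ i ▸ Subgroup.mem_top g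
    have hu : ∀ v : ↥c.Vv, (Ψ i (MulAut.conjNormal (e : G) v)).toAdd =
        (g : Matrix (Fin 2) (Fin 2) (F i)).mulVec (Ψ i v).toAdd := by
      intro v
      obtain ⟨w, hw, hw'⟩ := hequ i e (pr i v)
      have h1 : Ψ i (MulAut.conjNormal (e : G) v) = ψ i w := by
        refine hψX i _ _ ?_
        have h2 := hpr i (MulAut.conjNormal (e : G) v)
        have h3 : (e : G) * ((pr i v : G)⁻¹ * v) * (e : G)⁻¹ = (pr i v : G)⁻¹ * v := by
          rw [Subgroup.mem_centralizer_iff.1 (hpr i v).2 e e.2, mul_inv_cancel_right]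
        rw [MulAut.conjNormal_apply, show (e : G) * (v : G) * (e : G)⁻¹ = w * ((pr i v : G)⁻¹ * v) by
          rw [← h3, hw]; group] at h2
        have h4 := mul_mem h2 (inv_mem (hpr i v))
        simpa [mul_assoc] using h4
      rw [h1, hw', he]
      rfl
    refine ⟨⟨e, le_iSup E i e.2⟩, huniq i _ _ fun v => ?_, fun j hji => (hΦ1 j _).2 fun v => ?_⟩
    · rw [← hΦeq]; exact hu v
    · refine hUX j i (Ne.symm hji) ?_
      rw [Subgroup.commutator_comm]
      exact Subgroup.commutator_mem_commutator e.2 v.2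
  · obtain ⟨t, ht, htE⟩ := h.conj i j
    have hX' : ∀ x : G, x ∈ X i ↔ t * x * t⁻¹ ∈ X j := by
      intro x
      have hV : x ∈ c.Vv ↔ t * x * t⁻¹ ∈ c.Vv :=
        ⟨fun hx => Subgroup.Normal.conj_mem inferInstance x hx t, fun hx => by
          simpa [mul_assoc] using Subgroup.Normal.conj_mem' inferInstance _ hx t⟩
      simp only [hX, Subgroup.mem_inf, ← hV, ← htE, Subgroup.mem_centralizer_iff, SetLike.mem_coe,
        Subgroup.mem_map, MulEquiv.coe_toMonoidHom, MulAut.conj_apply, forall_exists_index, and_imp,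
        forall_apply_eq_imp_iff₂]
      refine and_congr_right fun _ => forall₂_congr fun a _ => ?_
      constructor
      · intro ha
        calc t * a * t⁻¹ * (t * x * t⁻¹) = t * (a * x) * t⁻¹ := by group
          _ = t * (x * a) * t⁻¹ := by rw [ha]
          _ = _ := by group
      · intro ha
        calc a * x = t⁻¹ * (t * a * t⁻¹ * (t * x * t⁻¹)) * t := by group
          _ = t⁻¹ * (t * x * t⁻¹ * (t * a * t⁻¹)) * t := by rw [ha]
          _ = _ := by group
    refine ⟨t, ht, fun e e' he => ?_⟩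
    rw [hΦ1, hΦ1, he]
    constructor
    · intro h' v
      have hv' : t⁻¹ * (v : G) * t ∈ c.Vv := Subgroup.Normal.conj_mem' inferInstance _ v.2 t
      have h2 := (hX' _).1 (h' ⟨_, hv'⟩)
      rwa [show t * ((e : G) * (t⁻¹ * v * t) * (e : G)⁻¹ * (t⁻¹ * v * t)⁻¹) * t⁻¹ =
        t * e * t⁻¹ * v * (t * e * t⁻¹)⁻¹ * (v : G)⁻¹ by group] at h2
    · intro h' v
      have hv' : t * (v : G) * t⁻¹ ∈ c.Vv := Subgroup.Normal.conj_mem inferInstance _ v.2 t
      have h2 := h' ⟨_, hv'⟩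
      rw [hX']
      rwa [show t * ((e : G) * v * (e : G)⁻¹ * (v : G)⁻¹) * t⁻¹ =
        t * e * t⁻¹ * (t * v * t⁻¹) * (t * e * t⁻¹)⁻¹ * (t * v * t⁻¹)⁻¹ by group]

theorem exists_cdata {r : ℕ} {E : Fin r → Subgroup G} (h : CStarShape p c.SS r E) :
    ∃ k : CData G p, k.c = c := by
  obtain ⟨d, hd⟩ := c.exists_data h
  obtain ⟨d', hdE, hup⟩ := d.exists_upper (J := c.Jt) (c.hSp.to_le c.Jt_le)
  exact ⟨⟨c, d', hdE.symm ▸ hd, hup⟩, rfl⟩

include c in
theorem isPMinimal : IsPMinimal p G := by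
  have hMc : IsCoatom c.M := ⟨c.hM, fun H hH => by
    by_contra hne
    exact absurd (c.hover H (c.hSM.trans hH.le) hne) (not_le_of_gt hH)⟩
  intro T
  obtain ⟨g, rfl⟩ := MulAction.exists_smul_eq G c.S T
  rw [Sylow.coe_subgroup_smul]
  set φ := MulAut.conj g
  refine ⟨fun hn => ?_, φ • c.M, ⟨?_, Subgroup.pointwise_smul_le_pointwise_smul_iff.2 c.hSM⟩, ?_⟩
  · refine c.Jt_not_le_P (c.Jt_le.trans ?_)
    haveI := hn
    have h1 : φ • c.SS ≤ pCore p G :=
      Cores.le_pCore ((c.hSp.map φ.toMonoidHom))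
    intro s hs
    have h2 := Subgroup.Normal.conj_mem' inferInstance _ (h1 (Subgroup.smul_mem_pointwise_smul s φ _ hs)) g
    simpa [φ, mul_assoc] using h2
  · refine ⟨fun he => c.hM ?_, fun H hH => ?_⟩
    · rw [← inv_smul_smul φ c.M, he]
      exact Subgroup.map_top_of_surjective _ (φ⁻¹).surjective
    · have hlt : c.M < φ⁻¹ • H := by
        refine lt_of_le_of_ne ?_ fun he => hH.ne ?_
        · rw [← inv_smul_smul φ c.M]
          exact Subgroup.pointwise_smul_le_pointwise_smul_iff.2 hH.le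
        · rw [he, smul_inv_smul]
      rw [← smul_inv_smul φ H, hMc.2 _ hlt]
      exact Subgroup.map_top_of_surjective _ φ.surjective
  · rintro H ⟨hHc, hTH⟩
    have hle : φ⁻¹ • H ≤ c.M := by
      refine c.hover _ ?_ fun he => hHc.1 ?_
      · rw [← inv_smul_smul φ (c.S : Subgroup G)]
        exact Subgroup.pointwise_smul_le_pointwise_smul_iff.2 hTH
      · rw [← smul_inv_smul φ H, he]
        exact Subgroup.map_top_of_surjective _ φ.surjective
    refine ((hHc.le_iff_eq ?_).1 ?_).symm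
    · intro he
      apply c.hM
      rw [← inv_smul_smul φ c.M, he]
      exact Subgroup.map_top_of_surjective _ (φ⁻¹).surjective
    · rw [← smul_inv_smul φ H]
      exact Subgroup.pointwise_smul_le_pointwise_smul_iff.2 hle

/-- In the setting, given the local `C**` theorem for `G`, some element of `S` outside `O_p(G)` has
small degree. -/
theorem exists_smallDegree (hp2 : p ≠ 2) (hchar : ∀ X : Subgroup G, CharIn X c.SS → X ≠ ⊥ → ¬ X.Normal)
    {r : ℕ} {E : Fin r → Subgroup G} (h : CStarShape p c.SS r E) :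
    ∃ v ∈ c.SS, v ∉ pCore p G ∧ ConjFunctor.Fixed.SmallDegree p v (pCore p G) := by
  obtain ⟨k, rfl⟩ := c.exists_cdata h
  exact k.exists_smallDegree hp2 hchar

end Ctx

end Cfsg.Agent.Lib.CharTransfer57
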