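import Cfsg.Agent.Lib.PushUpP.Common
import Cfsg.Agent.Lib.PGroups.Thompson
import Cfsg.Agent.Lib.PGroups.Omega
import Cfsg.Prelude.Def_ConjugacyFunctors

/-!
# A characteristic subgroup of the Baumann subgroup that is normal in every pushing-up group without an
element acting quadratically modulo `Ω₁(Z(B))`
-/

set_option autoImplicit false
set_option linter.unusedSectionVars false
set_option linter.style.haveILetI false

open Cfsg
open scoped commutatorElement

namespace Cfsg.Agent.Lib.CharTransfer57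

open Cfsg.Agent.Lib
open Cfsg.Agent.Lib.PushUpP (omZ Sit Fam rho rho_apply exists_sit exists_overgroup exists_rho_aut)

universe u

/-- A pushing-up group over `B`, with an elementary abelian subgroup of largest order outside `O_p(G)`,
`Ω₁(Z(B))` not normal, and no element of `B` outside `O_p(G)` quadratic modulo `Ω₁(Z(B))`. -/
structure NoQuad (p : ℕ) (B : Type u) [Group B] (G : Type u) [Group G] [Finite G] (τ : B →* G) : Prop where
  inj : Function.Injective τ
  push : IsPushingUpSituation p τ.range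
  omZ_not_normal : ¬ ((omZ p B).map τ).Normal
  outside : ∃ A ∈ PGroups.maxElemAbIn p (⊤ : Subgroup B), ¬ A.map τ ≤ pCore p G
  noQuad : ∀ s : B, (∀ q ∈ pCore p G, ⁅τ s, ⁅τ s, q⁆⁆ ∈ (omZ p B).map τ) → τ s ∈ pCore p G

variable {p : ℕ} [hp : Fact p.Prime] {B : Type u} [Group B] [Finite B]

theorem NoQuad.exists_sit {G : Type u} [Group G] [Finite G] {τ : B →* G} (h : NoQuad p B G τ) :
    ∃ (F : Type) (_ : Field F) (_ : Fintype F) (c : Sit G p F), c.TT = τ.range ∧ c.Good := by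
  obtain ⟨-, ⟨P, hP⟩, hcent, huniq, K, hK, F, hFi, hFt, n, hF, he⟩ := h.push
  have hn : 1 ≤ n := by
    rcases Nat.eq_zero_or_pos n with h | h
    · have := Fintype.one_lt_card (α := F)
      rw [hF, h, pow_zero] at this
      omega
    · exact h
  obtain ⟨c, hcP, -⟩ := PushUpP.exists_sit P hcent (by rwa [hP]) K n hn hF he
  have hT : c.TT = τ.range := by show (c.S : Subgroup G) = _; rw [hcP, hP]
  refine ⟨F, hFi, hFt, c, hT, fun hn => h.omZ_not_normal ?_, ?_⟩
  · rwa [Sit.map_omZ (c := c) h.inj hT]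
  obtain ⟨A, hA, hAQ⟩ := h.outside
  refine ⟨A.map τ, ⟨hT ▸ Subgroup.map_le_range τ A, ?_⟩, fun C hC hCe => ?_, hAQ⟩
  · rintro _ ⟨a, ha, rfl⟩ _ ⟨b, hb, rfl⟩
    rw [← map_mul, ← map_mul, PGroups.elemAb_comm hA.2.1 ha hb]
  · have hp1 : ∀ x ∈ C, x ^ p = 1 := hCe p (by
      rintro _ ⟨a, ha, rfl⟩
      rw [← map_pow, PGroups.elemAb_pow hA.2.1 ha, map_one])
    have hmap : (C.comap τ).map τ = C := Subgroup.map_comap_eq_self (hC.1.trans hT.le)
    rw [← hmap, Subgroup.card_map_of_injective h.inj, Subgroup.card_map_of_injective h.inj]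
    refine hA.2.2 _ le_top (PGroups.elemAb_mk (fun a ha b hb => h.inj ?_) fun a ha => h.inj ?_)
    · rw [map_mul, map_mul]; exact hC.2 _ ha _ hb
    · rw [map_pow, map_one]; exact hp1 _ ha

/-- One subgroup of `B` is normal in, and contains `Ω₁(Z(B))` in, all these groups. -/
theorem exists_common_noQuad (hp2 : p ≠ 2) :
    ∃ W : Subgroup B, ∀ (G : Type u) [Group G] [Finite G] (τ : B →* G), NoQuad p B G τ →
      (W.map τ).Normal ∧ (omZ p B).map τ ≤ W.map τ := by
  classical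
  let Cand : Subgroup B → Prop := fun W => W.Characteristic ∧ ∀ a ∈ W, a ^ p = 1 ∧ ∀ b ∈ W, a * b = b * a
  suffices h : ∃ W : Subgroup B, Cand W ∧ ∀ (G : Type u) [Group G] [Finite G] (τ : B →* G),
      NoQuad p B G τ → (W.map τ).Normal ∧ (omZ p B).map τ ≤ W.map τ from h.imp fun _ h => h.2
  by_contra hcon
  push Not at hcon
  let ι := {W : Subgroup B // Cand W}
  haveI : Nonempty ι := ⟨⟨⊥, inferInstance, fun a ha => by
    rw [Subgroup.mem_bot.1 ha]
    exact ⟨one_pow p, fun b _ => by rw [one_mul, mul_one]⟩⟩⟩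
  have hch : ∀ W : ι, ∃ (G : Type u) (_ : Group G) (_ : Finite G) (τ : B →* G), NoQuad p B G τ ∧
      ((W.1.map τ).Normal → ¬ (omZ p B).map τ ≤ W.1.map τ) := fun W => by
    obtain ⟨G, i1, i2, τ, h1, h2⟩ := hcon W.1 W.2
    exact ⟨G, i1, i2, τ, h1, h2⟩
  choose G iG iF τ hyp hfail using hch
  letI := iG
  haveI := iF
  choose Fs iFi iFt cs hT hg using fun i => (hyp i).exists_sit
  letI := iFi
  letI := iFt
  obtain ⟨m, f, hm, hf⟩ := exists_overgroup τ fun i => (hyp i).inj
  have hρ : Function.Injective (rho B m) := fun a b h => by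
    have h1 := Equiv.congr_fun h (1, ⟨0, hm⟩)
    simp only [rho_apply, mul_one, Prod.mk.injEq] at h1
    exact h1.1
  have hTf : ∀ i, (cs i).TT.map (f i) = (rho B m).range := by
    intro i
    rw [hT i, MonoidHom.map_range]
    ext x
    constructor
    · rintro ⟨s, rfl⟩; exact ⟨s, ((hf i).2 s).symm⟩
    · rintro ⟨s, rfl⟩; exact ⟨s, (hf i).2 s⟩
  let Φ : Fam (Equiv.Perm (B × Fin m)) p ι :=
    { D := fun i => (cs i).toData (hg i) (f i) (hf i).1
      T := (rho B m).range
      hT := hTf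
      core := by
        intro C hC hCab hV hX hN
        set W := C.comap (rho B m) with hW
        have hWcand : Cand W := by
          refine ⟨Subgroup.characteristic_iff_le_comap.2 fun φ a ha => ?_,
            fun a ha => ⟨hρ ?_, fun b hb => hρ ?_⟩⟩
          · obtain ⟨π, hπ, hπs⟩ := exists_rho_aut (m := m) φ
            show rho B m (φ a) ∈ C
            rw [← hπs a]
            exact hN π hπ _ ha
          · rw [map_pow, (hCab _ ha).1, map_one]
          · rw [map_mul, map_mul]; exact (hCab _ ha).2 _ hb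
        set i : ι := ⟨W, hWcand⟩
        have hmem : ∀ x : G i, f i x ∈ C → x ∈ W.map (τ i) := by
          intro x hx
          obtain ⟨s, hs⟩ := hC hx
          refine ⟨s, show rho B m s ∈ C from hs ▸ hx, (hf i).1 ?_⟩
          rw [(hf i).2, hs]
        refine hfail i ⟨?_⟩ ?_
        · rintro _ ⟨s, hs, rfl⟩ g
          refine hmem _ ?_
          rw [map_mul, map_mul, map_inv, (hf i).2]
          exact hX i _ ⟨g, rfl⟩ _ hs
        · intro v hv
          refine hmem v (hV i ⟨v, ?_, rfl⟩)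
          rw [Sit.map_omZ (c := cs i) (hyp i).inj (hT i)] at hv
          exact (cs i).Z_le_V hv }
  -- an element quadratic modulo `Ω₁(Z(B))`
  have kill : ∀ (i : ι) (w : G i), w ∈ (cs i).TT → w ∉ pCore p (G i) →
      (∀ q ∈ pCore p (G i), ⁅w, ⁅w, q⁆⁆ ∈ (cs i).Z) → False := by
    intro i w hw hwQ hq
    obtain ⟨s, rfl⟩ : w ∈ (τ i).range := hT i ▸ hw
    exact hwQ ((hyp i).noQuad s fun q hqQ => by
      rw [Sit.map_omZ (c := cs i) (hyp i).inj (hT i)]; exact hq q hqQ)
  rcases Sit.cases_fam hg (fun i => (hf i).1) Φ (fun i => rfl) with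
    ⟨i, U, D₀, o⟩ | ⟨-, i, j, φ, T⟩
  · obtain ⟨u, hu, huQ⟩ : ∃ u ∈ U, u ∉ pCore p (G i) := SetLike.not_le_iff_exists.1 fun hle => by
      obtain ⟨t, ht, htQ⟩ := (cs i).exists_out
      exact htQ ((sup_le le_rfl hle) (o.sup.symm ▸ ht))
    refine kill i u (o.le_S hu) huQ fun q hq => ?_
    have h : ⁅u, q⁆ ∈ (cs i).Z := by
      rw [← commutatorElement_inv]; exact inv_mem (o.comm_Q q hq u hu)
    rw [commutatorElement_eq_one_iff_mul_comm.2 (h.2.2 u (o.le_S hu))]
    exact one_mem _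
  · have hd := hg i
    have hd' := hg j
    obtain ⟨y, hy⟩ := T.crit
    obtain ⟨t, ht, htQ⟩ := (cs i).exists_out
    obtain ⟨w, hw, q₀, hq₀, rfl⟩ := Sit.Two.cover hd hd' T ht
    have hwQ : w ∉ pCore p (G i) := fun h => htQ (mul_mem h hq₀)
    have hwT := Sit.img_le_S hw
    have hWQ := Sit.Two.Unimg_le hd hd' T hw
    have rQW : ∀ r ∈ Sit.img φ (pCore p (G j)), ∀ w' ∈ Sit.img φ (Sit.Un φ.symm), ⁅r, w'⁆ ∈ (cs i).Z :=
      fun r hr w' hw' => Sit.Kimg_le_Z (Sit.Two.comm_Qimg hd hd' T hr hw')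
    refine kill i w hwT hwQ fun q hq => ?_
    obtain ⟨a, ha, r, hrQ, hr, rfl⟩ := Sit.Crit.decomp_Q hd hd' T hy hq
    have haU := Sit.Crit.le_Un hd hd' T hy ha
    have haT : a ∈ (cs i).TT := (cs i).Q_le_S (Sit.Two.Un_le_Q hd hd' T haU)
    have hz : ⁅r, w⁆ ∈ (cs i).Z := rQW r hr w hw
    have hi := Sit.Two.comm_UW hd hd' T hp2 haU hw
    have hi2 : ⁅⁅a, w⁆, w⁆ ∈ (cs i).Z := rQW _ (Sit.Two.Unimg_le hd hd' T hi.2) w hw
    have hiT : ⁅a, w⁆ ∈ (cs i).TT := Sit.img_le_S hi.2
    -- `[w,[w,ar]]` is `[[a,w],w]` up to sign and conjugation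
    have e1 : ⁅w, a * r⁆ = ⁅a, w⁆⁻¹ * (a * ⁅r, w⁆⁻¹ * a⁻¹) := by
      simp only [commutatorElement_def]; group
    have hz' : a * ⁅r, w⁆⁻¹ * a⁻¹ = ⁅r, w⁆⁻¹ := by
      rw [(inv_mem hz : ⁅r, w⁆⁻¹ ∈ (cs i).Z).2.2 a haT, mul_inv_cancel_right]
    rw [e1, hz']
    set z := ⁅r, w⁆⁻¹ with hzdef
    set b := ⁅a, w⁆ with hbdef
    have hzc : ∀ s ∈ (cs i).TT, s * z = z * s := (inv_mem hz : z ∈ (cs i).Z).2.2
    have h1 : w * z = z * w := hzc w hwT
    have e2 : ⁅w, b⁻¹ * z⁆ = b⁻¹ * ⁅b, w⁆ * b := by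
      rw [show ⁅w, b⁻¹ * z⁆ = w * b⁻¹ * (z * w⁻¹ * z⁻¹) * b by simp only [commutatorElement_def]; group,
        show z * w⁻¹ * z⁻¹ = w⁻¹ by
          rw [← hzc w⁻¹ (inv_mem hwT), mul_inv_cancel_right]]
      simp only [commutatorElement_def]; group
    rw [e2, mul_assoc, ← hi2.2.2 b hiT, inv_mul_cancel_left]
    exact hi2

/-- The largest subgroup of `B` normal in all these groups. -/
def Kb (p : ℕ) (B : Type u) [Group B] : Subgroup B :=
  sSup {X : Subgroup B | ∀ (G : Type u) [Group G] [Finite G] (τ : B →* G), NoQuad p B G τ → (X.map τ).Normal}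

theorem Kb_normal {G : Type u} [Group G] [Finite G] {τ : B →* G} (h : NoQuad p B G τ) :
    ((Kb p B).map τ).Normal := by
  refine ⟨fun x hx g => ?_⟩
  have hle : ((Kb p B).map τ).map (MulAut.conj g).toMonoidHom ≤ (Kb p B).map τ := by
    rw [Subgroup.map_map, Subgroup.map_le_iff_le_comap]
    refine sSup_le fun X hX => ?_
    intro a ha
    show g * τ a * g⁻¹ ∈ (Kb p B).map τ
    exact Subgroup.map_mono (le_sSup hX) ((hX G τ h).conj_mem _ ⟨a, ha, rfl⟩ g)
  exact hle ⟨x, hx, rfl⟩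

theorem Kb_ne_bot (hp2 : p ≠ 2) [Nontrivial B] : Kb p B ≠ ⊥ := by
  intro hbot
  obtain ⟨W, hW⟩ := exists_common_noQuad (p := p) (B := B) hp2
  by_cases hex : ∃ (G : Type u) (_ : Group G) (_ : Finite G) (τ : B →* G), NoQuad p B G τ
  · obtain ⟨G, _, _, τ, h⟩ := hex
    obtain ⟨F, _, _, c, hT, -⟩ := h.exists_sit
    have hWle : W ≤ Kb p B := le_sSup fun G _ _ τ h => (hW G τ h).1
    rw [hbot, le_bot_iff] at hWle
    have h1 := (hW G τ h).2
    rw [hWle, Subgroup.map_bot, Sit.map_omZ (c := c) h.inj hT] at h1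
    exact c.Z_ne (le_bot_iff.1 h1)
  · refine top_ne_bot (α := Subgroup B) (le_bot_iff.1 (hbot ▸ le_sSup fun G iG iF τ h => ?_))
    exact absurd ⟨G, iG, iF, τ, h⟩ hex

theorem map_omZ_equiv {C : Type u} [Group C] (e : B ≃* C) : (omZ p B).map e.toMonoidHom = omZ p C := by
  ext c
  obtain ⟨b, rfl⟩ := e.surjective c
  rw [show (e b) = e.toMonoidHom b from rfl, Subgroup.mem_map_iff_mem e.injective]
  show b ∈ Subgroup.center B ∧ b ^ p = 1 ↔ e b ∈ Subgroup.center C ∧ e b ^ p = 1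
  refine and_congr ?_ ?_
  · simp only [Subgroup.mem_center_iff]
    refine ⟨fun h x => ?_, fun h x => e.injective ?_⟩
    · obtain ⟨y, rfl⟩ := e.surjective x
      rw [← map_mul, ← map_mul, h y]
    · rw [map_mul, map_mul, h]
  · rw [← map_pow, e.map_eq_one_iff]

theorem NoQuad.comp {C : Type u} [Group C] [Finite C] (e : B ≃* C) {G : Type u} [Group G] [Finite G]
    {τ : C →* G} (h : NoQuad p C G τ) : NoQuad p B G (τ.comp e.toMonoidHom) := by
  have hZ : (omZ p B).map (τ.comp e.toMonoidHom) = (omZ p C).map τ := by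
    rw [← Subgroup.map_map, map_omZ_equiv]
  refine ⟨h.inj.comp e.injective, ?_, hZ ▸ h.omZ_not_normal, ?_, fun s hs => ?_⟩
  · rw [MonoidHom.range_comp, MonoidHom.range_eq_top.2 e.surjective, ← MonoidHom.range_eq_map]
    exact h.push
  · obtain ⟨A, hA, hAQ⟩ := h.outside
    have hset : PGroups.maxElemAbIn p (⊤ : Subgroup B) = PGroups.maxElemAbIn p ((⊤ : Subgroup C).map e.symm.toMonoidHom) := by
      rw [Subgroup.map_top_of_surjective _ e.symm.surjective]
    refine ⟨A.map e.symm.toMonoidHom, ?_, ?_⟩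
    · rw [hset, PGroups.map_maxElemAbIn _ e.symm.injective]
      exact ⟨A, hA, rfl⟩
    · rwa [Subgroup.map_map, MonoidHom.comp_assoc, show e.toMonoidHom.comp e.symm.toMonoidHom = MonoidHom.id C from
        MonoidHom.ext fun x => e.apply_symm_apply x, MonoidHom.comp_id]
  · exact h.noQuad (e s) fun q hq => hZ ▸ hs q hq

theorem Kb_map {C : Type u} [Group C] [Finite C] (e : B ≃* C) : (Kb p B).map e.toMonoidHom = Kb p C := by
  have key : ∀ {B C : Type u} [Group B] [Finite B] [Group C] [Finite C] (e : B ≃* C),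
      (Kb p B).map e.toMonoidHom ≤ Kb p C := by
    intro B C _ _ _ _ e
    refine le_sSup fun G _ _ τ h => ?_
    rw [Subgroup.map_map]
    exact Kb_normal (h.comp e)
  refine le_antisymm (key e) fun c hc => ⟨e.symm c, key e.symm ⟨c, hc, rfl⟩, e.apply_symm_apply c⟩

/-- The Baumann subgroup of a group mapped into another. -/
theorem map_baumann_top {Q G : Type u} [Group Q] [Group G] (f : Q →* G) (hf : Function.Injective f) :
    (baumannSubgroupOf p (⊤ : Subgroup Q)).map f = baumannSubgroupOf p f.range := by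
  have hW : (omegaOne p (centerThompsonOf p (⊤ : Subgroup Q))).map f =
      omegaOne p (centerThompsonOf p f.range) := by
    rw [PGroups.map_omegaOne_of_injective _ hf, PGroups.map_centerThompsonOf _ hf, MonoidHom.range_eq_map]
  ext x
  simp only [baumannSubgroupOf, top_inf_eq, Subgroup.mem_inf, Subgroup.mem_map, ← hW]
  constructor
  · rintro ⟨a, ha, rfl⟩
    refine ⟨⟨a, rfl⟩, Subgroup.mem_centralizer_iff.2 ?_⟩
    rintro _ ⟨w, hw, rfl⟩
    rw [← map_mul, ← map_mul, Subgroup.mem_centralizer_iff.1 ha w hw]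
  · rintro ⟨⟨a, rfl⟩, h⟩
    refine ⟨a, Subgroup.mem_centralizer_iff.2 fun w hw => hf ?_, rfl⟩
    rw [map_mul, map_mul]
    exact Subgroup.mem_centralizer_iff.1 h _ ⟨w, hw, rfl⟩

/-- The functor. -/
def Kfun (p : ℕ) (Q : Type u) [Group Q] : Subgroup Q :=
  (Kb p ↥(baumannSubgroupOf p (⊤ : Subgroup Q))).map (baumannSubgroupOf p (⊤ : Subgroup Q)).subtype

/-- The functor seen inside a group. -/
theorem map_Kfun {Q G : Type u} [Group Q] [Finite Q] [Group G] [Finite G] (f : Q →* G)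
    (hf : Function.Injective f) :
    (Kfun p Q).map f =
      (Kb p ↥(baumannSubgroupOf p f.range)).map (baumannSubgroupOf p f.range).subtype := by
  let e : ↥(baumannSubgroupOf p (⊤ : Subgroup Q)) ≃* ↥(baumannSubgroupOf p f.range) :=
    ((baumannSubgroupOf p (⊤ : Subgroup Q)).equivMapOfInjective f hf).trans
      (MulEquiv.subgroupCongr (map_baumann_top f hf))
  rw [← Kb_map e, Kfun, Subgroup.map_map, Subgroup.map_map]
  rfl

theorem baumann_ne_bot [Nontrivial B] (hB : IsPGroup p B) : baumannSubgroupOf p (⊤ : Subgroup B) ≠ ⊥ := by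
  intro h
  haveI := hB.center_nontrivial
  refine (Subgroup.nontrivial_iff_ne_bot _).1 (this : Nontrivial ↥(Subgroup.center B)) (le_bot_iff.1 ?_)
  rw [← h]
  exact le_inf le_top (Subgroup.center_le_centralizer _)

theorem isCharPFunctor_Kfun (hp2 : p ≠ 2) : IsCharPFunctor.{u} p (Kfun p) := by
  refine ⟨fun Q _ _ hQ hnt h => ?_, fun Q R _ _ _ _ φ => ?_⟩
  · haveI := hnt
    haveI : Nontrivial ↥(baumannSubgroupOf p (⊤ : Subgroup Q)) :=
      (Subgroup.nontrivial_iff_ne_bot _).2 (baumann_ne_bot hQ)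
    exact Kb_ne_bot hp2 ((Subgroup.map_eq_bot_iff_of_injective _
      (baumannSubgroupOf p (⊤ : Subgroup Q)).subtype_injective).1 h)
  · haveI : Finite R := Finite.of_equiv Q φ.toEquiv
    have h1 := map_Kfun (p := p) φ.toMonoidHom φ.injective
    have h2 := map_Kfun (p := p) (MulEquiv.refl R).toMonoidHom (MulEquiv.refl R).injective
    rw [MonoidHom.range_eq_top.2 φ.surjective] at h1
    rw [MonoidHom.range_eq_top.2 (MulEquiv.refl R).surjective] at h2
    rw [h1, ← h2]
    exact Subgroup.map_id _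

end Cfsg.Agent.Lib.CharTransfer57
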