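import Cfsg.Agent.Lib.FFTransv57.Main
import Mathlib.LinearAlgebra.Matrix.SpecialLinearGroup

/-!
# With an offender, a fixed vector of the Sylow subgroup is moved

`p` odd, `H` faithful on the elementary abelian `p`-group `W`, `T` a Sylow `p`-subgroup inside a unique
maximal subgroup, `O_p(H) = 1` and some nontrivial offender.  Then `H` moves some fixed vector of `T`.
-/

set_option autoImplicit false
set_option linter.unusedSectionVars false
set_option linter.style.haveILetI false

namespace Cfsg.Agent.Lib.CharTransfer57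

open Cfsg.Agent.Lib
open Cfsg.Agent.Lib.RankOneFF (fixW mem_fixW cjS mem_cjS)
open Cfsg.Agent.Lib.FFComp65 (Exact Comps SLNat)
open Matrix (SpecialLinearGroup)

universe u v

variable {H : Type u} [Group H] {W : Type v} [AddCommGroup W] [DistribMulAction H W]
variable {p : ℕ} [hp : Fact p.Prime]

theorem eq_zero_of_coprime_nsmul {d : W} {n : ℕ} (hn : n • d = 0) (hp' : p • d = 0) (hco : n.Coprime p) :
    d = 0 :=
  AddMonoid.addOrderOf_eq_one_iff.1 (Nat.eq_one_of_dvd_coprimes hco
    (addOrderOf_dvd_of_nsmul_eq_zero hn) (addOrderOf_dvd_of_nsmul_eq_zero hp'))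

/-- An element of order prime to `p` moving a vector by a vector it fixes fixes it. -/
theorem smul_eq_of_sub_fixed (hpW : ∀ w : W, p • w = 0) {k : H} (hk : (orderOf k).Coprime p) {w : W}
    (h : k • (k • w - w) = k • w - w) : k • w = w := by
  have hn : ∀ n : ℕ, k ^ n • w = w + n • (k • w - w) := by
    intro n
    induction n with
    | zero => simp
    | succ n ih =>
      have hfix : k • (n • (k • w - w)) = n • (k • w - w) := by
        show DistribSMul.toAddMonoidHom W k (n • (k • w - w)) = _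
        rw [map_nsmul]
        exact congrArg (n • ·) h
      rw [pow_succ', mul_smul, ih, smul_add, hfix, succ_nsmul]
      abel
  have h1 := hn (orderOf k)
  rw [pow_orderOf_eq_one, one_smul, left_eq_add] at h1
  exact sub_eq_zero.1 (eq_zero_of_coprime_nsmul h1 (hpW _) hk)

variable [Finite H]

/-- A nontrivial normal subgroup of order prime to `p`: a fixed vector of `T` is moved. -/
theorem exists_moved_of_normal [FaithfulSMul H W] [Finite W] (hpW : ∀ w : W, p • w = 0) (T : Sylow p H)
    {N : Subgroup H} [N.Normal] (hN : N ≠ ⊥) (hco : (Nat.card N).Coprime p) :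
    ∃ u ∈ fixW W (T : Subgroup H), ∃ h : H, h • u ≠ u := by
  classical
  haveI : Fintype ↥N := Fintype.ofFinite _
  let nrm : W →+ W := ∑ n : ↥N, DistribSMul.toAddMonoidHom W (n : H)
  have hnrm : ∀ w, nrm w = ∑ n : ↥N, (n : H) • w := fun w => by
    simp [nrm]
  have hequiv : ∀ (h : H) (w : W), nrm (h • w) = h • nrm w := by
    intro h w
    rw [hnrm, hnrm, Finset.smul_sum]
    let e : ↥N ≃ ↥N := (MulAut.conjNormal (H := N) h⁻¹).toEquiv
    rw [← Equiv.sum_comp e fun n : ↥N => h • ((n : H) • w)]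
    refine Finset.sum_congr rfl fun n _ => ?_
    show (n : H) • h • w = h • ((MulAut.conjNormal (H := N) h⁻¹ n : ↥N) : H) • w
    rw [MulAut.conjNormal_apply, ← mul_smul, ← mul_smul]
    congr 1
    group
  obtain ⟨n₀, hn₀, hne⟩ := (Subgroup.ne_bot_iff_exists_ne_one.1 hN).elim fun n hn =>
    (show ∃ n ∈ N, n ≠ 1 from ⟨n, n.2, fun h => hn (Subtype.ext h)⟩)
  obtain ⟨w₀, hw₀⟩ : ∃ w : W, n₀ • w ≠ w := by
    by_contra hcon
    push Not at hcon
    exact hne (eq_of_smul_eq_smul fun w : W => (hcon w).trans (one_smul H w).symm)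
  let D : AddSubgroup W := nrm.ker
  have hd : n₀ • w₀ - w₀ ∈ D := by
    show nrm (n₀ • w₀ - w₀) = 0
    rw [map_sub, hnrm, hnrm, sub_eq_zero]
    refine Fintype.sum_equiv (Equiv.mulRight (⟨n₀, hn₀⟩ : ↥N)) _ _ fun n => ?_
    rw [← mul_smul]
    rfl
  letI : MulAction ↥(T : Subgroup H) ↥D :=
    { smul := fun t d => ⟨(t : H) • (d : W), by
        show nrm _ = 0
        rw [hequiv, show nrm d = 0 from d.2, smul_zero]⟩
      one_smul := fun d => Subtype.ext (one_smul H (d : W))
      mul_smul := fun a b d => Subtype.ext (mul_smul (a : H) (b : H) (d : W)) }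
  have hdvd : p ∣ Nat.card ↥D := by
    have h1 : addOrderOf (⟨_, hd⟩ : ↥D) = p := addOrderOf_eq_prime (Subtype.ext (hpW _))
      fun h => hw₀ (sub_eq_zero.1 (congrArg Subtype.val h))
    exact h1 ▸ addOrderOf_dvd_natCard _
  obtain ⟨b, hb, hb0⟩ := T.isPGroup'.exists_fixed_point_of_prime_dvd_card_of_fixed_point ↥D hdvd
    (a := 0) (fun t => Subtype.ext (smul_zero (t : H)))
  refine ⟨b, fun t ht => congrArg Subtype.val (hb ⟨t, ht⟩), ?_⟩
  by_contra hcon
  push Not at hcon
  refine hb0 (Subtype.ext (eq_zero_of_coprime_nsmul (n := Nat.card N) ?_ (hpW _) hco)).symm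
  have h2 : nrm b = 0 := b.2
  rw [hnrm] at h2
  simp only [hcon, Finset.sum_const, Finset.card_univ] at h2
  rwa [Nat.card_eq_fintype_card]

/-- The involutions of the components. -/
theorem exists_normal_coprime [Finite W] (hp2 : p ≠ 2) {T : Subgroup H} {r : ℕ} {E : Fin r → Subgroup H}
    (hC : Comps p W T r E) : ∃ N : Subgroup H, N.Normal ∧ N ≠ ⊥ ∧ (Nat.card N).Coprime p := by
  have hE : ∀ i, ∃ (F : Type) (_ : Field F) (_ : E i ≃* SpecialLinearGroup (Fin 2) F), (2 : F) ≠ 0 := by
    intro i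
    obtain ⟨n, hn, ⟨F, hF, hFt, hcard, ρ, -⟩ | ⟨h2, -⟩⟩ := hC.natural i
    · refine ⟨F, hF, ρ, fun h2 => hp2 ?_⟩
      haveI : CharP F (ringChar F) := ringChar.charP F
      have h1 : ringChar F ∣ 2 := (ringChar.spec F 2).1 (by exact_mod_cast h2)
      have hr := CharP.char_is_prime F (ringChar F)
      obtain ⟨m, hm, hm'⟩ := FiniteField.card F (ringChar F)
      have hr2 := (Nat.prime_dvd_prime_iff_eq hr Nat.prime_two).1 h1
      have hdvd : ringChar F ∣ p ^ n := hcard ▸ hm' ▸ dvd_pow_self _ m.pos.ne'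
      exact ((Nat.prime_dvd_prime_iff_eq hr hp.out).1 (hr.dvd_of_dvd_pow hdvd)).symm.trans hr2
    · exact absurd h2 hp2
  choose F fF ρ h2 using hE
  let z : Fin r → H := fun i => ((ρ i).symm (-1) : E i)
  have hzmem : ∀ i, z i ∈ E i := fun i => SetLike.coe_mem _
  have hzne : ∀ i, z i ≠ 1 := fun i h => by
    have h3 : (ρ i).symm (-1) = 1 := Subtype.ext h
    rw [MulEquiv.map_eq_one_iff] at h3
    have h4 := congrArg (fun g : SpecialLinearGroup (Fin 2) (F i) => (g : Matrix (Fin 2) (Fin 2) (F i)) 0 0) h3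
    simp at h4
    exact h2 i (by linear_combination (-1 : F i) * h4)
  have hzsq : ∀ i, z i * z i = 1 := fun i => by
    show (((ρ i).symm (-1) * (ρ i).symm (-1) : E i) : H) = 1
    rw [← map_mul, neg_mul_neg, one_mul, map_one]
    rfl
  have hcomm : ∀ i j, ∀ y ∈ E j, z i * y = y * z i := by
    intro i j y hy
    rcases eq_or_ne i j with rfl | hij
    · refine congrArg Subtype.val (a₁ := (ρ i).symm (-1) * ⟨y, hy⟩) (a₂ := ⟨y, hy⟩ * (ρ i).symm (-1))
        ((ρ i).injective ?_)
      rw [map_mul, map_mul, MulEquiv.apply_symm_apply, neg_one_mul, mul_neg_one]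
    · exact hC.commute i j hij _ (hzmem i) y hy
  set D : Subgroup H := ⨆ i, E i with hD
  haveI : D.Normal := hC.normal
  have hcent : ∀ i, z i ∈ Subgroup.centralizer (D : Set H) := fun i => by
    have hle : D ≤ Subgroup.centralizer ({z i} : Set H) := iSup_le fun j y hy =>
      Subgroup.mem_centralizer_singleton_iff.2 (hcomm i j y hy).symm
    exact Subgroup.mem_centralizer_iff.2 fun y hy => Subgroup.mem_centralizer_singleton_iff.1 (hle hy)
  let N : Subgroup H :=
    { carrier := {x | x ∈ D ∧ x ∈ Subgroup.centralizer (D : Set H) ∧ x ^ 2 = 1}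
      one_mem' := ⟨one_mem _, one_mem _, one_pow 2⟩
      mul_mem' := fun {a b} ha hb => ⟨mul_mem ha.1 hb.1, mul_mem ha.2.1 hb.2.1, by
        rw [(show Commute a b from Subgroup.mem_centralizer_iff.1 hb.2.1 a ha.1).mul_pow, ha.2.2, hb.2.2,
          one_mul]⟩
      inv_mem' := fun {a} ha => ⟨inv_mem ha.1, inv_mem ha.2.1, by rw [inv_pow, ha.2.2, inv_one]⟩ }
  haveI : (Subgroup.centralizer (D : Set H)).Normal := Subgroup.normal_centralizer (H := D)
  haveI : N.Normal := ⟨fun x hx h => ⟨(inferInstance : D.Normal).conj_mem x hx.1 h,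
    (inferInstance : (Subgroup.centralizer (D : Set H)).Normal).conj_mem x hx.2.1 h, by
      rw [conj_pow, hx.2.2, mul_one, mul_inv_cancel]⟩⟩
  refine ⟨N, inferInstance, fun h => ?_, ?_⟩
  · exact hzne ⟨0, hC.pos⟩ (Subgroup.mem_bot.1 (h ▸
      (⟨le_iSup E _ (hzmem ⟨0, hC.pos⟩), hcent _, by rw [pow_two]; exact hzsq _⟩ : z ⟨0, hC.pos⟩ ∈ N)))
  · have h2p : IsPGroup 2 N := fun x => ⟨1, Subtype.ext (by rw [pow_one]; exact x.2.2.2)⟩
    obtain ⟨k, hk⟩ := IsPGroup.iff_card.1 h2p
    rw [hk]
    exact Nat.Coprime.pow_left k ((Nat.coprime_primes Nat.prime_two hp.out).2 (Ne.symm hp2))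

variable (p W) in
/-- The fixed points of the elements of order prime to `p`. -/
def fixCoprime : AddSubgroup W := fixW W (Subgroup.closure {k : H | (orderOf k).Coprime p})

/-- With an offender, a fixed vector of the Sylow subgroup is moved. -/
theorem exists_moved [FaithfulSMul H W] [Finite W] (hp2 : p ≠ 2) (hpW : ∀ w : W, p • w = 0)
    (T : Sylow p H) {M : Subgroup H} (hM : M ≠ ⊤) (hTM : (T : Subgroup H) ≤ M)
    (honly : NoStrict.OnlyIn (T : Subgroup H) M) (hO : Cfsg.pCore p H = ⊥) {R : Subgroup H}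
    (hR : Exact p W R) (hne : R ≠ ⊥) : ∃ u ∈ fixW W (T : Subgroup H), ∃ h : H, h • u ≠ u := by
  classical
  set P' : Set H := {k : H | (orderOf k).Coprime p} with hP'
  set U : AddSubgroup W := fixW W (Subgroup.closure P') with hU
  have hUsm : ∀ (h : H), ∀ w ∈ U, h • w ∈ U := by
    intro h w hw x hx
    have hx' : h⁻¹ * x * h ∈ Subgroup.closure P' := by
      have hle : (Subgroup.closure P').map (MulAut.conj h⁻¹).toMonoidHom ≤ Subgroup.closure P' := by
        rw [MonoidHom.map_closure]
        refine Subgroup.closure_mono ?_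
        rintro _ ⟨k, hk, rfl⟩
        show (orderOf ((MulAut.conj h⁻¹) k)).Coprime p
        rw [MulEquiv.orderOf_eq]
        exact hk
      have := hle ⟨x, hx, rfl⟩
      simpa using this
    calc x • h • w = h • (h⁻¹ * x * h) • w := by rw [← mul_smul, ← mul_smul]; congr 1; group
      _ = h • w := by rw [hw _ hx']
  let act : H → (W ⧸ U) →+ (W ⧸ U) := fun h =>
    QuotientAddGroup.map U U (DistribSMul.toAddMonoidHom W h) fun w hw => hUsm h w hw
  letI : DistribMulAction H (W ⧸ U) :=
    { smul := fun h x => act h x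
      one_smul := fun x => by
        induction x using QuotientAddGroup.induction_on with
        | H w => exact congrArg QuotientAddGroup.mk (one_smul H w)
      mul_smul := fun a b x => by
        induction x using QuotientAddGroup.induction_on with
        | H w => exact congrArg QuotientAddGroup.mk (mul_smul a b w)
      smul_zero := fun h => map_zero (act h)
      smul_add := fun h x y => map_add (act h) x y }
  have hmk : ∀ (h : H) (w : W), h • (w : W ⧸ U) = ((h • w : W) : W ⧸ U) := fun _ _ => rfl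
  have hfixmk : ∀ (h : H) (w : W), h • (w : W ⧸ U) = (w : W ⧸ U) ↔ h • w - w ∈ U := fun h w => by
    rw [hmk, QuotientAddGroup.eq_iff_sub_mem]
  -- an element of order prime to `p` fixing a vector modulo `U` fixes it
  have hcop : ∀ k ∈ P', ∀ w : W, k • w - w ∈ U → k • w = w := fun k hk w hw =>
    smul_eq_of_sub_fixed hpW hk (hw k (Subgroup.subset_closure hk))
  -- the action on `W ⧸ U` is faithful
  let Kr : Subgroup H :=
    { carrier := {n | ∀ x : W ⧸ U, n • x = x}
      one_mem' := fun x => one_smul H x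
      mul_mem' := fun {a b} ha hb x => by rw [mul_smul, hb x, ha x]
      inv_mem' := fun {a} ha x => inv_smul_eq_iff.2 (ha x).symm }
  haveI : Kr.Normal := ⟨fun n hn h x => by rw [mul_smul, mul_smul, hn, smul_inv_smul]⟩
  have hKp : IsPGroup p Kr := fun n => by
    set a := (orderOf (n : H)).factorization p
    set m := orderOf (n : H) / p ^ a with hm
    refine ⟨a, Subtype.ext (show (n : H) ^ p ^ a = 1 from eq_of_smul_eq_smul fun w : W => ?_)⟩
    rw [one_smul]
    refine hcop _ ?_ w ((hfixmk _ w).1 ((Kr.pow_mem n.2 _) (w : W ⧸ U)))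
    refine Nat.Coprime.coprime_dvd_left (orderOf_dvd_of_pow_eq_one (n := m) ?_) ?_
    · rw [← pow_mul, hm, Nat.ordProj_mul_ordCompl_eq_self, pow_orderOf_eq_one]
    · rw [Nat.coprime_comm, hp.out.coprime_iff_not_dvd, hm]
      exact Nat.not_dvd_ordCompl hp.out (orderOf_pos (n : H)).ne'
  have hKbot : Kr = ⊥ := le_bot_iff.1 (hO ▸ Cores.le_pCore hKp)
  haveI : FaithfulSMul H (W ⧸ U) := ⟨fun {a b} h => by
    have h1 : a⁻¹ * b ∈ Kr := fun x => by rw [mul_smul, ← h x, inv_smul_smul]
    rw [hKbot, Subgroup.mem_bot, inv_mul_eq_one] at h1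
    exact h1⟩
  haveI : Finite (W ⧸ U) := Finite.of_surjective _ QuotientAddGroup.mk_surjective
  have hpQ : ∀ x : W ⧸ U, p • x = 0 := fun x => by
    induction x using QuotientAddGroup.induction_on with
    | H w => rw [← QuotientAddGroup.mk_nsmul, hpW]; rfl
  -- a fixed vector of `T` in `W ⧸ U` is moved
  letI : MulAction ↥(T : Subgroup H) (W ⧸ U) := MulAction.compHom _ (T : Subgroup H).subtype
  obtain ⟨n₀, hn₀, hn₀1⟩ : ∃ n ∈ R, n ≠ 1 := by
    by_contra hcon
    push Not at hcon
    exact hne ((Subgroup.eq_bot_iff_forall _).2 hcon)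
  obtain ⟨x₀, hx₀⟩ : ∃ x : W ⧸ U, n₀ • x ≠ x := by
    by_contra hcon
    push Not at hcon
    exact hn₀1 (eq_of_smul_eq_smul fun x : W ⧸ U => (hcon x).trans (one_smul H x).symm)
  have hdvd : p ∣ Nat.card (W ⧸ U) := by
    have h1 : addOrderOf (n₀ • x₀ - x₀) = p := addOrderOf_eq_prime (hpQ _) (sub_ne_zero.2 hx₀)
    exact h1 ▸ addOrderOf_dvd_natCard _
  obtain ⟨b, hb, hb0⟩ := T.isPGroup'.exists_fixed_point_of_prime_dvd_card_of_fixed_point (W ⧸ U) hdvd
    (a := 0) (fun t => smul_zero (t : H))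
  have hmoved : ∃ u ∈ fixW (W ⧸ U) (T : Subgroup H), ∃ h : H, h • u ≠ u := by
    refine ⟨b, fun t ht => hb ⟨t, ht⟩, ?_⟩
    by_contra hcon
    push Not at hcon
    induction b using QuotientAddGroup.induction_on with
    | H w =>
      refine hb0 ((QuotientAddGroup.eq_zero_iff w).2 fun x hx => ?_).symm
      have hle : Subgroup.closure P' ≤ MulAction.stabilizer H w :=
        (Subgroup.closure_le _).2 fun k hk => hcop k hk w ((hfixmk k w).1 (hcon k))
      exact hle hx
  have hR' : Exact p (W ⧸ U) R := by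
    refine ⟨hR.pgroup, hR.comm, ?_⟩
    have h1 : Nat.card W = Nat.card (W ⧸ U) * Nat.card U := AddSubgroup.card_eq_card_quotient_mul_card_addSubgroup U
    let q : ↥(fixW W R) →+ ↥(fixW (W ⧸ U) R) :=
      { toFun := fun w => ⟨((w : W) : W ⧸ U), fun x hx => by rw [hmk, w.2 x hx]⟩
        map_zero' := rfl
        map_add' := fun _ _ => rfl }
    have h2 : Nat.card ↥(fixW W R) ≤ Nat.card ↥(fixW (W ⧸ U) R) * Nat.card U := by
      rw [AddSubgroup.card_eq_card_quotient_mul_card_addSubgroup q.ker,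
        Nat.card_congr (QuotientAddGroup.quotientKerEquivRange q).toEquiv]
      refine Nat.mul_le_mul (Nat.card_le_card_of_injective _ q.range.subtype_injective)
        (Nat.card_le_card_of_injective (fun w : q.ker => (⟨((w : ↥(fixW W R)) : W),
          (QuotientAddGroup.eq_zero_iff _).1 (congrArg Subtype.val (show q w = 0 from w.2))⟩ : U))
          fun a b h => Subtype.ext (Subtype.ext (congrArg (fun u : U => (u : W)) h)))
    have hUpos : 0 < Nat.card U := Nat.card_pos
    refine Nat.le_of_mul_le_mul_right ?_ hUpos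
    calc Nat.card (W ⧸ U) * Nat.card U = Nat.card W := h1.symm
      _ ≤ Nat.card R * Nat.card ↥(fixW W R) := hR.le
      _ ≤ Nat.card R * (Nat.card ↥(fixW (W ⧸ U) R) * Nat.card U) := Nat.mul_le_mul_left _ h2
      _ = _ := (mul_assoc _ _ _).symm
  obtain ⟨r, E, hC⟩ := FFTransv57.componentsStatement H (W ⧸ U) p T M hpQ
    ⟨hM, hTM, honly, hmoved⟩ hO ⟨R, hR', hne⟩
  obtain ⟨N, hNn, hN, hco⟩ := exists_normal_coprime hp2 hC
  exact exists_moved_of_normal hpW T hN hco

end Cfsg.Agent.Lib.CharTransfer57
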