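import Cfsg.Agent.Lib.CharTransfer57.Baumann
import Cfsg.Agent.Lib.PushPair69.Wire
import Cfsg.Agent.Lib.PushUpP.Psl
import Cfsg.Agent.Lib.PGroups.Frattini

/-!
# The Baumann subgroup is a Sylow subgroup in a pushing-up configuration
-/

set_option autoImplicit false
set_option linter.unusedSectionVars false
set_option linter.style.haveILetI false

namespace Cfsg.Agent.Lib.CharTransfer57

open Cfsg
open Cfsg.Agent.Lib
open Cfsg.Agent.Lib.LAEven57.PushingUp (SL2 PSL2 U uMat lMat wMat)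

open scoped Pointwise

universe u

namespace CData

variable {G : Type u} [Group G] [Finite G] {p : ℕ} [hp : Fact p.Prime] (k : CData G p)

theorem nonempty_index : Nonempty (Fin k.d.r) := by
  by_contra h
  rw [not_nonempty_iff] at h
  refine k.c.Jt_not_le_P fun a ha => ?_
  rw [← k.c.S_inf_cV]
  exact ⟨k.c.Jt_le ha, k.mem_cV_of_Φ (e := ⟨a, k.Jt_le_E ha⟩) fun i => isEmptyElim i⟩

/-- An element of `E` acting as the Weyl element in every coordinate. -/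
noncomputable def w : ↥k.d.E := (k.d.exists_Φ fun _ => wMat).choose

theorem Φ_w (i : Fin k.d.r) : k.d.Φ i k.w = wMat := (k.d.exists_Φ fun _ => wMat).choose_spec i

/-- The opposite Baumann subgroup. -/
noncomputable abbrev BBx : Subgroup G := k.c.BB.map (MulAut.conj (k.w : G)).toMonoidHom

/-- `⟨B, B^x⟩`. -/
noncomputable abbrev L0 : Subgroup G := k.c.BB ⊔ k.BBx

theorem L0_le_E : k.L0 ≤ k.d.E := by
  refine sup_le k.BB_le_E ?_
  rintro _ ⟨b, hb, rfl⟩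
  exact k.d.E_normal.conj_mem b (k.BB_le_E hb) _

theorem W_comm {a b : G} (ha : a ∈ k.W) (hb : b ∈ k.W) : a * b = b * a := by
  have h : k.W ≤ Subgroup.centralizer (k.W : Set G) := k.W_le_X.trans (by
    rw [k.P_inf_BB]; exact inf_le_right)
  exact Subgroup.mem_centralizer_iff.1 (h hb) a ha

theorem split_V {v : G} (hv : v ∈ k.c.Vv) :
    ∃ a, (a ∈ k.c.Vv ∧ a ∈ k.c.W0) ∧ ∃ b, (b ∈ k.c.Vv ∧ b ∈ k.c.W0) ∧
      v = a * ((k.w : G) * b * (k.w : G)⁻¹) := by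
  obtain ⟨b, hb⟩ := k.d.surjΨ fun i => ![k.d.vec i ⟨v, hv⟩ 1, 0]
  have hb' : ∀ i, k.d.vec i b = ![k.d.vec i ⟨v, hv⟩ 1, 0] := hb
  set c := k.cn (k.w : G) b with hc
  have ha : ∀ i, k.d.vec i (⟨v, hv⟩ * c⁻¹) 1 = 0 := by
    intro i
    rw [k.d.vec_mul, k.d.vec_inv, hc, show k.cn (k.w : G) b = MulAut.conjNormal (k.w : G) b from rfl,
      k.d.vec_conj, k.Φ_w, hb']
    simp [wMat]
  refine ⟨_, ⟨(⟨v, hv⟩ * c⁻¹ : ↥k.c.Vv).2, (k.mem_W0_iff _).2 ha⟩, b,
    ⟨b.2, (k.mem_W0_iff b).2 fun i => by simp [hb']⟩, ?_⟩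
  show v = v * ((c : ↥k.c.Vv) : G)⁻¹ * _
  rw [show ((c : ↥k.c.Vv) : G) = (k.w : G) * b * (k.w : G)⁻¹ from MulAut.conjNormal_apply _ _,
    inv_mul_cancel_right]

/-- `W0` is `V ∩ W0` times its part in the opposite `W0`. -/
theorem W0_split {g : G} (hg : g ∈ k.c.W0) :
    ∃ l, (l ∈ k.c.Vv ∧ l ∈ k.c.W0) ∧ ∃ d, (d ∈ k.c.W0 ∧ ∃ d' ∈ k.c.W0, d = (k.w : G) * d' * (k.w : G)⁻¹) ∧
      g = l * d := by
  have hgW : (k.w : G)⁻¹ * g * k.w ∈ k.W :=
    Subgroup.Normal.conj_mem' inferInstance g (le_sup_left (b := k.c.Vv) hg) _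
  obtain ⟨a, ha, v, hv, he⟩ := Subgroup.mem_sup_of_normal_right.1 hgW
  obtain ⟨l, hl, b, hb, hv'⟩ := k.split_V
    (Subgroup.Normal.conj_mem inferInstance v hv (k.w : G) : (k.w : G) * v * (k.w : G)⁻¹ ∈ k.c.Vv)
  have hab : a * b ∈ k.c.W0 := mul_mem ha hb.2
  set d := (k.w : G) * (a * b) * (k.w : G)⁻¹ with hd
  have hgd : g = l * d := by
    have haW : (k.w : G) * a * (k.w : G)⁻¹ ∈ k.W :=
      Subgroup.Normal.conj_mem inferInstance a (le_sup_left (b := k.c.Vv) ha) _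
    calc g = (k.w : G) * (a * v) * (k.w : G)⁻¹ := by rw [he]; group
      _ = ((k.w : G) * a * (k.w : G)⁻¹) * ((k.w : G) * v * (k.w : G)⁻¹) := by group
      _ = ((k.w : G) * a * (k.w : G)⁻¹) * l * ((k.w : G) * b * (k.w : G)⁻¹) := by rw [hv', ← mul_assoc]
      _ = l * ((k.w : G) * a * (k.w : G)⁻¹) * ((k.w : G) * b * (k.w : G)⁻¹) := by
          rw [k.W_comm haW (le_sup_right (a := k.c.W0) hl.1)]
      _ = l * d := by rw [hd]; group
  refine ⟨l, hl, d, ⟨?_, a * b, hab, rfl⟩, hgd⟩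
  rw [show d = l⁻¹ * g by rw [hgd]; group]
  exact mul_mem (inv_mem hl.2) hg

theorem L0_fix {g d d' : G} (hg : g ∈ k.L0) (hd : d ∈ k.c.W0) (hd' : d' ∈ k.c.W0)
    (he : d = (k.w : G) * d' * (k.w : G)⁻¹) : g * d = d * g := by
  have hle : k.L0 ≤ Subgroup.centralizer ({d} : Set G) := by
    refine sup_le (fun b hb => Subgroup.mem_centralizer_singleton_iff.2
      (Subgroup.mem_centralizer_iff.1 hb.2 d hd).symm) ?_
    rintro _ ⟨b, hb, rfl⟩
    refine Subgroup.mem_centralizer_singleton_iff.2 ?_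
    simp only [MulEquiv.coe_toMonoidHom, MulAut.conj_apply]
    have h := Subgroup.mem_centralizer_iff.1 hb.2 d' hd'
    calc (k.w : G) * b * (k.w : G)⁻¹ * d = (k.w : G) * (b * d') * (k.w : G)⁻¹ := by rw [he]; group
      _ = (k.w : G) * (d' * b) * (k.w : G)⁻¹ := by rw [← h]
      _ = _ := by rw [he]; group
  exact Subgroup.mem_centralizer_singleton_iff.1 (hle hg)

theorem fix_W0_of_L0 {g : G} (hg : g ∈ k.L0)
    (h : ∀ v ∈ k.c.Vv, v ∈ k.c.W0 → g * v = v * g) : g ∈ Subgroup.centralizer (k.c.W0 : Set G) := by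
  refine Subgroup.mem_centralizer_iff.2 fun x hx => ?_
  obtain ⟨l, hl, d, ⟨hd, d', hd', he⟩, rfl⟩ := k.W0_split hx
  rw [← mul_assoc g, h l hl.1 hl.2, mul_assoc l g, k.L0_fix hg hd hd' he, mul_assoc]

theorem uSL_range_eq (i : Fin k.d.r) {g : SL2 (k.d.F i)} (hg : g ∈ (Linear.uSL (F := k.d.F i)).range) :
    ∃ a : ↥k.c.Jt, k.d.Φ i ⟨a, k.Jt_le_E a.2⟩ = g ∧ ∀ j, j ≠ i → k.d.Φ j ⟨a, k.Jt_le_E a.2⟩ = 1 := by
  obtain ⟨t, rfl⟩ := hg
  obtain ⟨a, ha, ha'⟩ := k.exists_pure i t.toAdd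
  refine ⟨a, ?_, fun j hj => (k.par_eq_one j a).1 (ha' j hj)⟩
  rw [← k.uSL_par, show k.par i a = t from Multiplicative.toAdd.injective ha]

/-- A `p`-element of `⟨B, B^x⟩` normalising `B` lies in `B`. -/
theorem BB_sylow {y : G} (hyL : y ∈ k.L0) (hyN : y ∈ Subgroup.normalizer (k.c.BB : Set G))
    {m : ℕ} (hym : y ^ p ^ m = 1) : y ∈ k.c.BB := by
  classical
  have hJ : Cfsg.thompsonSubgroupOf p k.c.BB = k.c.Jt :=
    PGroups.thompsonSubgroupOf_eq_of_le k.c.BB_le k.c.Jt_le_BB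
  have hyJ : y ∈ Subgroup.normalizer (k.c.Jt : Set G) := by
    rw [← hJ]; exact PGroups.normalizer_le_normalizer_thompson _ hyN
  set e : ↥k.d.E := ⟨y, k.L0_le_E hyL⟩ with he
  have hb : ∀ i, ∃ b : k.d.F i, k.d.Φ i e = Linear.uSL (Multiplicative.ofAdd b) := by
    intro i
    obtain ⟨a, ha, -⟩ := k.uSL_range_eq i ⟨Multiplicative.ofAdd (1 : k.d.F i), rfl⟩
    have hmem : y * a * y⁻¹ ∈ k.c.Jt := (Subgroup.mem_normalizer_iff.1 hyJ a).1 a.2
    obtain ⟨s, hs⟩ := k.Φ_J hmem i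
    have hrel : k.d.Φ i e * Linear.uSL (Multiplicative.ofAdd 1) =
        Linear.uSL (Multiplicative.ofAdd s) * k.d.Φ i e := by
      rw [← hs, ← ha, ← map_mul, ← map_mul]
      congr 1
      exact Subtype.ext (by simp [he])
    set A := (k.d.Φ i e : Matrix (Fin 2) (Fin 2) (k.d.F i)) with hA
    have h10 : A 1 0 = 0 := by
      have h := congrArg (fun g : SL2 (k.d.F i) => (g : Matrix (Fin 2) (Fin 2) (k.d.F i)) 1 1) hrel
      simp only [Matrix.SpecialLinearGroup.coe_mul, Linear.coe_uSL, ← hA] at h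
      simpa [Matrix.mul_apply, Fin.sum_univ_two] using h
    have hpow : ∀ n : ℕ, ((k.d.Φ i e ^ n : SL2 (k.d.F i)) : Matrix (Fin 2) (Fin 2) (k.d.F i)) 1 0 = 0 ∧
        ((k.d.Φ i e ^ n : SL2 (k.d.F i)) : Matrix (Fin 2) (Fin 2) (k.d.F i)) 0 0 = A 0 0 ^ n := by
      intro n
      induction n with
      | zero => simp
      | succ n ih =>
        rw [pow_succ, Matrix.SpecialLinearGroup.coe_mul, ← hA]
        constructor <;> simp only [Matrix.mul_apply, Fin.sum_univ_two, ih.1, ih.2, h10] <;> ring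
    have h00 : A 0 0 = 1 := by
      haveI : CharP (k.d.F i) p := k.d.chr i
      have h := (hpow (p ^ m)).2
      rw [← map_pow, show e ^ p ^ m = 1 from Subtype.ext hym, map_one] at h
      have h0 : (A 0 0 - 1) ^ p ^ m = 0 := by
        rw [sub_pow_char_pow, ← h, one_pow]
        simp
      exact sub_eq_zero.1 (eq_zero_of_pow_eq_zero h0)
    have h11 : A 1 1 = 1 := by
      have hdet : A.det = 1 := (k.d.Φ i e).2
      rw [Matrix.det_fin_two, h00, h10] at hdet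
      simpa using hdet
    refine ⟨A 0 1, Subtype.ext ?_⟩
    rw [Linear.coe_uSL, ← hA]
    ext a b
    fin_cases a <;> fin_cases b <;> simp [h00, h10, h11]
  choose b hb using hb
  obtain ⟨a, ha⟩ := k.exists_par b
  have hc : y * (a : G)⁻¹ ∈ Subgroup.centralizer (k.c.Vv : Set G) := by
    have h := k.mem_cV_of_Φ (e := e * (⟨a, k.Jt_le_E a.2⟩ : ↥k.d.E)⁻¹) fun i => by
      rw [map_mul, map_inv, ← k.uSL_par, hb, ← ha i, ofAdd_toAdd, mul_inv_cancel]
    simpa [he] using h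
  have hyW : y ∈ Subgroup.centralizer (k.c.W0 : Set G) := k.fix_W0_of_L0 hyL fun v hv hvW => by
    have h1 : (a : G) * v = v * a := (Subgroup.mem_centralizer_iff.1 (k.c.W0_le_cJ hvW) a a.2)
    have h2 := Subgroup.mem_centralizer_iff.1 hc v hv
    calc y * v = y * (a : G)⁻¹ * ((a : G) * v) := by group
      _ = y * (a : G)⁻¹ * v * a := by rw [h1, mul_assoc (y * (a : G)⁻¹) v]
      _ = v * y := by rw [← h2]; group
  -- `⟨y⟩ B` is a `p`-subgroup of `N(J) ∩ C(W0)`, whose Sylow subgroup is `B`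
  set N := Subgroup.normalizer (k.c.Jt : Set G) with hN
  set T := Subgroup.zpowers y ⊔ k.c.BB with hT
  have hTp : IsPGroup p T :=
    IsPGroup.to_sup_of_normal_right' (fun z => by
      obtain ⟨n, hn⟩ := Subgroup.mem_zpowers_iff.1 z.2
      refine ⟨m, Subtype.ext ?_⟩
      show (z : G) ^ p ^ m = 1
      rw [← hn, ← zpow_natCast, ← zpow_mul, mul_comm, zpow_mul, zpow_natCast, hym, one_zpow])
      (k.c.hSp.to_le k.c.BB_le) (Subgroup.zpowers_le.2 hyN)
  have hTN : T ≤ N := sup_le (Subgroup.zpowers_le.2 hyJ) (k.c.BB_le.trans k.c.S_le_normalizer_Jt)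
  have hTW : T ≤ Subgroup.centralizer (k.c.W0 : Set G) := sup_le (Subgroup.zpowers_le.2 hyW) inf_le_right
  have hNW : N ≤ Subgroup.normalizer (k.c.W0 : Set G) := fun g hg =>
    PGroups.mem_normalizer_of_map_conj_eq (by
      show (omegaOne p (centerThompsonOf p k.c.SS)).map _ = _
      rw [PGroups.map_omegaOne_of_injective _ (MulAut.conj g).injective, PGroups.map_conj_eq_of_mem_normalizer
        (PGroups.normalizer_thompson_le_normalizer_centerThompson _ hg)])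
  set SN : Sylow p ↥N := k.c.S.subtype k.c.S_le_normalizer_Jt with hSN
  obtain ⟨Q, hQ⟩ := (hTp.comap_subtype (K := N)).exists_le_sylow
  obtain ⟨n, hn⟩ := MulAction.exists_smul_eq ↥N SN Q
  have hTB : T ≤ k.c.BB.map (MulAut.conj (n : G)).toMonoidHom := by
    intro t ht
    have h1 : (⟨t, hTN ht⟩ : ↥N) ∈ (Q : Subgroup ↥N) := hQ ht
    rw [← hn, Sylow.coe_subgroup_smul, Subgroup.mem_pointwise_smul_iff_inv_smul_mem] at h1
    have h2 : (n : G)⁻¹ * t * n ∈ k.c.SS := by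
      simpa [hSN, MulAut.conj_apply, MulAut.smul_def, Subgroup.mem_subgroupOf] using h1
    refine ⟨(n : G)⁻¹ * t * n, ⟨h2, ?_⟩, by simp [mul_assoc]⟩
    refine Subgroup.mem_centralizer_iff.2 fun x hx => ?_
    have hx' : (n : G) * x * (n : G)⁻¹ ∈ k.c.W0 := (Subgroup.mem_normalizer_iff.1 (hNW n.2) x).1 hx
    have h3 := Subgroup.mem_centralizer_iff.1 (hTW ht) _ hx'
    calc x * ((n : G)⁻¹ * t * n) = (n : G)⁻¹ * (((n : G) * x * (n : G)⁻¹) * t) * n := by group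
      _ = (n : G)⁻¹ * (t * ((n : G) * x * (n : G)⁻¹)) * n := by rw [h3]
      _ = _ := by group
  have hTeq : k.c.BB = T := Subgroup.eq_of_le_of_card_ge le_sup_right (by
    have h := Subgroup.card_le_of_le hTB
    rwa [Subgroup.card_map_of_injective (MulAut.conj (n : G)).injective] at h)
  rw [hTeq]
  exact le_sup_left (b := k.c.BB) (Subgroup.mem_zpowers y)

/-- The projection to `PSL₂`. -/
noncomputable abbrev proj (i : Fin k.d.r) : ↥k.d.E →* PSL2 (k.d.F i) :=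
  (QuotientGroup.mk' _).comp (k.d.Φ i)

theorem proj_BB (i : Fin k.d.r) : (k.c.BB.subgroupOf k.d.E).map (k.proj i) = U (k.d.F i) := by
  rw [PushUpP.U_eq_map, ← Subgroup.map_map]
  congr 1
  apply le_antisymm
  · rintro _ ⟨e, he, rfl⟩
    exact k.Φ_BB i he
  · intro g hg
    obtain ⟨a, ha, -⟩ := k.uSL_range_eq i hg
    exact ⟨⟨a, k.Jt_le_E a.2⟩, k.c.Jt_le_BB a.2, ha⟩

theorem proj_L0 (i : Fin k.d.r) : (k.L0.subgroupOf k.d.E).map (k.proj i) = ⊤ := by
  have hw : k.proj i k.w = LAEven57.PushingUp.wImg := by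
    show QuotientGroup.mk' _ (k.d.Φ i k.w) = _
    rw [k.Φ_w]; rfl
  have hn : LAEven57.PushingUp.wImg ∉ Subgroup.normalizer (U (k.d.F i) : Set (PSL2 (k.d.F i))) := fun h => by
    have := (PushUpP.mem_normalizer_U_iff wMat).1 h
    simp [wMat] at this
  rw [eq_top_iff, ← PushUpP.U_sup_eq_top hn]
  refine sup_le ((k.proj_BB i).ge.trans (Subgroup.map_mono (Subgroup.comap_mono le_sup_left))) ?_
  rintro _ ⟨z, hz, rfl⟩
  rw [← k.proj_BB i] at hz
  obtain ⟨e, he, rfl⟩ := hz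
  refine ⟨k.w * e * k.w⁻¹, ?_, ?_⟩
  · exact le_sup_right (a := k.c.BB) ⟨e, he, rfl⟩
  · rw [map_mul, map_mul, map_inv, hw]
    rfl

theorem eq_top_of_uSL {F : Type} [Field F] {H : Subgroup (SL2 F)}
    (h : (Linear.uSL (F := F)).range ≤ H)
    (hw : ∀ u ∈ (Linear.uSL (F := F)).range, wMat * u * wMat⁻¹ ∈ H) : H = ⊤ := by
  rw [eq_top_iff, ← Linear.uSL_sup_conj_eq_top (k := (wMat : SL2 F)) (by simp [wMat])]
  refine sup_le h fun x hx => ?_
  rw [Subgroup.mem_pointwise_smul_iff_inv_smul_mem, MulAut.smul_def, MulAut.inv_apply,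
    MulAut.conj_symm_apply] at hx
  have h' := hw _ hx
  rwa [show wMat * (wMat⁻¹ * x * wMat) * wMat⁻¹ = x by group] at h'

/-- A subgroup of `E` mapping onto one `PSL₂` generates `G` together with `S`. -/
theorem sup_eq_top {L : Subgroup ↥k.d.E} (i : Fin k.d.r) (hL : L.map (k.proj i) = ⊤) :
    L.map k.d.E.subtype ⊔ k.c.SS = ⊤ := by
  classical
  by_contra hne
  have hLM : ∀ e ∈ L, (e : G) ∈ k.c.M := fun e he =>
    k.c.hover _ le_sup_right hne (le_sup_left (b := k.c.SS) ⟨e, he, rfl⟩)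
  have hJM : ∀ (j : Fin k.d.r), ∀ g ∈ (Linear.uSL (F := k.d.F j)).range,
      ∃ e : ↥k.d.E, (e : G) ∈ k.c.M ∧ k.d.Φ j e = g ∧ ∀ l, l ≠ j → k.d.Φ l e = 1 := fun j g hg => by
    obtain ⟨a, ha, ha'⟩ := k.uSL_range_eq j hg
    exact ⟨⟨a, k.Jt_le_E a.2⟩, k.c.hSM (k.c.Jt_le a.2), ha, ha'⟩
  -- `E ∩ M` covers the component `i`
  have hi : (k.c.M.subgroupOf k.d.E).map (k.d.Φ i) = ⊤ := by
    refine eq_top_of_uSL (fun g hg => ?_) fun u hu => ?_
    · obtain ⟨e, he, he', -⟩ := hJM i g hg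
      exact ⟨e, he, he'⟩
    · obtain ⟨e, he, hew⟩ : QuotientGroup.mk' (Subgroup.center (SL2 (k.d.F i))) (wMat : SL2 (k.d.F i)) ∈
          L.map (k.proj i) := hL ▸ Subgroup.mem_top _
      have hz : (k.d.Φ i e)⁻¹ * wMat ∈ Subgroup.center (SL2 (k.d.F i)) := QuotientGroup.eq.1 hew
      have heq : wMat * u * wMat⁻¹ = k.d.Φ i e * u * (k.d.Φ i e)⁻¹ := by
        rw [show (wMat : SL2 (k.d.F i)) = k.d.Φ i e * ((k.d.Φ i e)⁻¹ * wMat) by group,
          show ∀ a z : SL2 (k.d.F i), a * z * u * (a * z)⁻¹ = a * (z * u * z⁻¹) * a⁻¹ from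
            fun a z => by group,
          ← Subgroup.mem_center_iff.1 hz u, mul_inv_cancel_right]
      obtain ⟨e', he', he'', -⟩ := hJM i u hu
      exact ⟨e * e' * e⁻¹, mul_mem (mul_mem (hLM e he) he') (inv_mem (hLM e he)),
        by rw [map_mul, map_mul, map_inv, he'', heq]⟩
  -- and every component
  have hall : ∀ j, ∀ g : SL2 (k.d.F j), ∃ e : ↥k.d.E, (e : G) ∈ k.c.M ∧ k.d.Φ j e = g := by
    intro j g
    obtain ⟨e, he, -⟩ := k.d.surjΦ j g
    obtain ⟨t, ht, htr⟩ := k.d.trans j i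
    set e' : ↥k.d.E := ⟨t * e * t⁻¹, k.d.E_normal.conj_mem _ e.2 t⟩
    obtain ⟨m, hm, hme⟩ : k.d.Φ i e' ∈ (k.c.M.subgroupOf k.d.E).map (k.d.Φ i) := hi ▸ Subgroup.mem_top _
    set m' : ↥k.d.E := ⟨t⁻¹ * m * t, k.d.E_normal.conj_mem' _ m.2 t⟩
    refine ⟨m', mul_mem (mul_mem (inv_mem (k.c.hSM ht)) hm) (k.c.hSM ht), ?_⟩
    have h1 := (htr (e * m'⁻¹) (e' * m⁻¹) (by simp [e', m', mul_assoc])).2
      (by rw [map_mul, map_inv, hme, mul_inv_cancel])
    rw [map_mul, map_inv, he, mul_inv_eq_one] at h1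
    exact h1.symm
  -- so `M` contains the components
  have hpure : ∀ j, ∀ g : SL2 (k.d.F j),
      ∃ e : ↥k.d.E, (e : G) ∈ k.c.M ∧ k.d.Φ j e = g ∧ ∀ l, l ≠ j → k.d.Φ l e = 1 := by
    intro j
    let H : Subgroup (SL2 (k.d.F j)) :=
      (k.c.M.subgroupOf k.d.E ⊓ ⨅ l : {l // l ≠ j}, (k.d.Φ l.1).ker).map (k.d.Φ j)
    have hH : H = ⊤ := by
      refine eq_top_of_uSL (fun g hg => ?_) fun u hu => ?_
      · obtain ⟨e, he, he', he''⟩ := hJM j g hg
        exact ⟨e, ⟨he, Subgroup.mem_iInf.2 fun l => he'' l.1 l.2⟩, he'⟩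
      · obtain ⟨m, hm, hmw⟩ := hall j wMat
        obtain ⟨e, he, he', he''⟩ := hJM j u hu
        refine ⟨m * e * m⁻¹, ⟨Subgroup.mem_subgroupOf.2 (mul_mem (mul_mem hm he) (inv_mem hm)),
          Subgroup.mem_iInf.2 fun l => ?_⟩, by rw [map_mul, map_mul, map_inv, hmw, he']⟩
        rw [MonoidHom.mem_ker, map_mul, map_mul, map_inv, he'' l.1 l.2, mul_one, mul_inv_cancel]
    intro g
    obtain ⟨e, ⟨he, he'⟩, heg⟩ : g ∈ H := hH ▸ Subgroup.mem_top g
    exact ⟨e, he, heg, fun l hl => Subgroup.mem_iInf.1 he' ⟨l, hl⟩⟩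
  have hEM : k.d.E ≤ k.c.M := by
    intro x hx
    have key : ∀ s : Finset (Fin k.d.r), ∃ e : ↥k.d.E, (e : G) ∈ k.c.M ∧
        ∀ l, k.d.Φ l e = if l ∈ s then k.d.Φ l ⟨x, hx⟩ else 1 := by
      intro s
      induction s using Finset.induction with
      | empty => exact ⟨1, one_mem _, fun l => by simp⟩
      | @insert j s hj ih =>
        obtain ⟨e, he, he'⟩ := ih
        obtain ⟨f, hf, hf', hf''⟩ := hpure j (k.d.Φ j ⟨x, hx⟩)
        refine ⟨f * e, mul_mem hf he, fun l => ?_⟩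
        rw [map_mul, he' l]
        by_cases hlj : l = j
        · subst hlj
          simp [hf', hj]
        · rw [hf'' l hlj, one_mul]
          simp [hlj]
    obtain ⟨e, he, he'⟩ := key Finset.univ
    have h := k.c.cV_le_M (k.mem_cV_of_Φ (e := (⟨x, hx⟩ : ↥k.d.E) * e⁻¹) fun l => by
      rw [map_mul, map_inv, he' l, if_pos (Finset.mem_univ l), mul_inv_cancel])
    have h' := mul_mem h he
    simpa using h'
  exact k.c.hM (top_le_iff.1 (k.c.thompson_sup_eq_top.ge.trans (sup_le (k.hJE.trans hEM) k.c.hSM)))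

/-- The embedding of the Baumann subgroup. -/
noncomputable def incl (L : Subgroup ↥k.d.E) (hB : k.c.BB.subgroupOf k.d.E ≤ L) : ↥k.c.BB →* ↥L :=
  (Subgroup.inclusion k.BB_le_E).codRestrict L fun a => hB a.2

theorem exists_pushingUp :
    ∃ (L : Subgroup ↥k.d.E) (i : Fin k.d.r) (hB : k.c.BB.subgroupOf k.d.E ≤ L),
      L.map (k.proj i) = ⊤ ∧ IsPushingUpSituation p (k.incl L hB).range := by
  obtain ⟨i⟩ := k.nonempty_index
  obtain ⟨L, ⟨hB, hL0, hL⟩, hmin⟩ := Set.exists_min_image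
    {L : Subgroup ↥k.d.E | k.c.BB.subgroupOf k.d.E ≤ L ∧ L ≤ k.L0.subgroupOf k.d.E ∧ L.map (k.proj i) = ⊤}
    (fun L => Nat.card L) (Set.toFinite _) ⟨_, Subgroup.comap_mono le_sup_left, le_rfl, k.proj_L0 i⟩
  refine ⟨L, i, hB, hL, ?_⟩
  set τ := k.incl L hB with hτ
  set π := (k.proj i).comp L.subtype with hπ
  have hπsurj : Function.Surjective π := fun g => by
    obtain ⟨e, he, h⟩ : g ∈ L.map (k.proj i) := hL ▸ Subgroup.mem_top g
    exact ⟨⟨e, he⟩, h⟩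
  have hτU : τ.range.map π = U (k.d.F i) := by
    rw [← k.proj_BB i]
    ext g
    constructor
    · rintro ⟨_, ⟨a, rfl⟩, rfl⟩
      exact ⟨_, a.2, rfl⟩
    · rintro ⟨e, he, rfl⟩
      exact ⟨_, ⟨⟨e, he⟩, rfl⟩, rfl⟩
  set ML := (Subgroup.normalizer (U (k.d.F i) : Set (PSL2 (k.d.F i)))).comap π with hML
  have hMLtop : ML ≠ ⊤ := fun h => by
    obtain ⟨g, hg⟩ := PushUpP.exists_not_mem_normalizer (F := k.d.F i)
    obtain ⟨e, rfl⟩ := hπsurj g
    exact hg (h ▸ Subgroup.mem_top e : e ∈ ML)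
  have hBML : τ.range ≤ ML :=
    Subgroup.map_le_iff_le_comap.1 (hτU.le.trans Subgroup.le_normalizer)
  have hover : ∀ H : Subgroup ↥L, τ.range ≤ H → H ≠ ⊤ → H ≤ ML := by
    intro H hBH hH
    rw [hML, ← Subgroup.map_le_iff_le_comap]
    intro g hg
    by_contra hgn
    have hU : U (k.d.F i) ≤ H.map π := hτU.ge.trans (Subgroup.map_mono hBH)
    have htop : H.map π = ⊤ := by
      rw [eq_top_iff, ← PushUpP.U_sup_eq_top hgn]
      refine sup_le hU ?_
      rintro _ ⟨z, hz, rfl⟩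
      exact mul_mem (mul_mem hg (hU hz)) (inv_mem hg)
    have hle := hmin (H.map L.subtype) ⟨fun e he => ⟨τ ⟨e, he⟩, hBH ⟨_, rfl⟩, rfl⟩,
      (Subgroup.map_subtype_le H).trans hL0, by rw [Subgroup.map_map, ← hπ, htop]⟩
    refine hH (Subgroup.eq_top_of_card_eq _ (le_antisymm (Subgroup.card_le_card_group _) ?_))
    rwa [Subgroup.card_map_of_injective L.subtype_injective] at hle
  -- the Sylow subgroup
  have hτinj : Function.Injective τ := fun a b h => Subtype.ext (congrArg (fun z : ↥L => ((z : ↥k.d.E) : G)) h)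
  set ι : ↥L →* G := k.d.E.subtype.comp L.subtype with hι
  have hιinj : Function.Injective ι := k.d.E.subtype_injective.comp L.subtype_injective
  have hmap : τ.range.map ι = k.c.BB := by
    ext g
    constructor
    · rintro ⟨_, ⟨a, rfl⟩, rfl⟩
      exact a.2
    · exact fun hg => ⟨_, ⟨⟨g, hg⟩, rfl⟩, rfl⟩
  have hmemτ : ∀ l : ↥L, ι l ∈ k.c.BB ↔ l ∈ τ.range := fun l =>
    ⟨fun h => ⟨⟨ι l, h⟩, hιinj rfl⟩, fun h => hmap ▸ Subgroup.mem_map_of_mem ι h⟩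
  have hτp : IsPGroup p τ.range := by
    rw [MonoidHom.range_eq_map]
    exact ((k.c.hSp.to_le k.c.BB_le).to_subgroup ⊤).map τ
  refine ⟨?_, ⟨⟨τ.range, hτp, fun {Q} hQ hle => ?_⟩, rfl⟩, ?_, ?_, ?_⟩
  · intro h
    haveI : Subsingleton (Subgroup ↥L) := subsingleton_of_bot_eq_top h.symm
    exact hMLtop (Subsingleton.elim _ _)
  · by_contra hne
    haveI : Group.IsNilpotent ↥Q := hQ.isNilpotent
    have hlt : τ.range.subgroupOf Q < ⊤ := lt_top_iff_ne_top.2 fun h =>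
      hne (le_antisymm (Subgroup.subgroupOf_eq_top.1 h) hle)
    obtain ⟨-, y, hy, hy'⟩ := SetLike.lt_iff_le_and_exists.1
      (Group.normalizerCondition_of_isNilpotent _ hlt)
    obtain ⟨m, hm⟩ := hQ y
    refine hy' ((hmemτ y).1 (k.BB_sylow (hL0 (y : ↥L).2) ?_ (m := m) ?_))
    · refine Subgroup.mem_normalizer_iff.2 ?_
      have key : ∀ y' : ↥Q, y' ∈ Subgroup.normalizer (τ.range.subgroupOf Q : Set ↥Q) →
          ∀ z ∈ k.c.BB, ι y' * z * (ι y')⁻¹ ∈ k.c.BB := by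
        intro y' hy' z hz
        rw [← hmap] at hz
        obtain ⟨l, hl, rfl⟩ := hz
        rw [← map_inv, ← map_mul, ← map_mul, hmemτ]
        exact (Subgroup.mem_normalizer_iff.1 hy' ⟨l, hle hl⟩).1 hl
      intro z
      refine ⟨key y hy z, fun hz => ?_⟩
      have h := key y⁻¹ (inv_mem hy) _ hz
      simp only [Subgroup.coe_inv, map_inv, inv_inv] at h
      simpa [mul_assoc] using h
    · rw [← map_pow, ← SubmonoidClass.coe_pow, hm]
      rfl
  · -- constrained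
    haveI hXn : (k.c.BB ⊓ pCore p G).Normal := by rw [inf_comm]; infer_instance
    have hX : (pCore p G ⊓ k.c.BB).comap ι ≤ pCore p ↥L :=
      Cores.le_pCore (((Cores.pCore_isPGroup p).to_le inf_le_left).comap_of_injective ι hιinj)
    refine fun l hl => hX (k.centralizer_X_le (Subgroup.mem_centralizer_iff.2 fun x hx => ?_))
    obtain ⟨z, -, rfl⟩ : x ∈ τ.range.map ι := hmap.ge hx.2
    have h := Subgroup.mem_centralizer_iff.1 hl z (hX hx)
    rw [← map_mul, ← map_mul, h]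
  · refine ⟨ML, ⟨⟨hMLtop, fun H hH => ?_⟩, hBML⟩, fun H hH => ?_⟩
    · by_contra hne
      exact absurd (hover H (hBML.trans hH.le) hne) (not_le_of_gt hH)
    · exact ((hH.1.le_iff_eq hMLtop).1 (hover H hH.2 hH.1.1)).symm
  · obtain ⟨n, -, hn⟩ := Linear.exists_card_eq_pow (F := k.d.F i) p
    exact ⟨π.ker, inferInstance, k.d.F i, inferInstance, inferInstance, n, hn,
      ⟨QuotientGroup.quotientKerEquivOfSurjective π hπsurj⟩⟩

/-- `[B, v, v] ≤ W0`. -/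
theorem dd_dd_mem (hp2 : p ≠ 2)
    (hchar : ∀ X : Subgroup G, CharIn X k.c.SS → X ≠ ⊥ → ¬ X.Normal)
    {v x : G} (hv : v ∈ k.c.BB) (hx : x ∈ k.c.BB) :
    v * (v * x * v⁻¹ * x⁻¹) * v⁻¹ * (v * x * v⁻¹ * x⁻¹)⁻¹ ∈ k.c.W0 := by
  obtain ⟨L, i, hB, hL, hpush⟩ := k.exists_pushingUp
  have hne : k.c.BB ≠ ⊥ := fun h => k.c.Jt_ne_bot (le_bot_iff.1 (h ▸ k.c.Jt_le_BB))
  haveI : Nontrivial ↥k.c.BB := (Subgroup.nontrivial_iff_ne_bot _).2 hne
  have hBp : IsPGroup p ↥k.c.BB := k.c.hSp.to_le k.c.BB_le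
  have hbad : ∀ X : Subgroup ↥k.c.BB, X.Characteristic → X ≠ ⊥ → ¬ (X.map (k.incl L hB)).Normal := by
    intro X hXc hX hn
    have hXS : CharIn (X.map k.c.BB.subtype) k.c.SS := (charIn_map hXc).trans k.c.BB_charIn
    refine hchar _ hXS (fun h => hX ((Subgroup.map_eq_bot_iff_of_injective _
      k.c.BB.subtype_injective).1 h)) (Subgroup.normalizer_eq_top_iff.1 (top_le_iff.1 ?_))
    rw [← k.sup_eq_top i hL]
    refine sup_le ?_ hXS.le_normalizer
    rintro _ ⟨e, he, rfl⟩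
    refine Subgroup.mem_normalizer_iff.2 ?_
    have key : ∀ e ∈ L, ∀ z ∈ X.map k.c.BB.subtype, (e : G) * z * (e : G)⁻¹ ∈ X.map k.c.BB.subtype := by
      rintro e he _ ⟨a, ha, rfl⟩
      obtain ⟨b, hb, hbe⟩ := hn.conj_mem _ (Subgroup.mem_map_of_mem (k.incl L hB) ha) ⟨e, he⟩
      exact ⟨b, hb, congrArg (fun z : ↥L => ((z : ↥k.d.E) : G)) hbe⟩
    intro z
    refine ⟨key e he z, fun hz => ?_⟩
    have h := key e⁻¹ (inv_mem he) _ hz
    simpa [mul_assoc] using h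
  obtain ⟨S₁, S₂, hpair, -⟩ | ⟨hexc, -, -⟩ := PushPair69.pair_or_exc (PushPair69.commonHyp p) hBp
  · rcases hpair.normal ↥L (k.incl L hB) (fun a b h => Subtype.ext
      (congrArg (fun z : ↥L => ((z : ↥k.d.E) : G)) h)) hpush with h | h
    · exact absurd h (hbad _ hpair.char₁ hpair.ne₁)
    · exact absurd h (hbad _ hpair.char₂ hpair.ne₂)
  · obtain ⟨-, -, hcen, -, -, h3, h4, -⟩ := hexc
    set a : ↥k.c.BB := ⟨v, hv⟩
    set b : ↥k.c.BB := ⟨x, hx⟩
    have hfr : frattini ↥k.c.BB ≤ Subgroup.upperCentralSeries ↥k.c.BB 2 := by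
      rcases Nat.lt_trichotomy 3 p with h | h | h
      · refine (h4 h).1.trans ?_
        rw [← Subgroup.upperCentralSeries_one]
        exact Subgroup.upperCentralSeries_mono _ (by norm_num)
      · exact h3 h.symm
      · have := hp.out.two_le
        omega
    have hc : a * b * a⁻¹ * b⁻¹ ∈ Subgroup.upperCentralSeries ↥k.c.BB 2 :=
      hfr (PGroups.commutatorElement_mem_frattini hBp a b)
    have hz : a * (a * b * a⁻¹ * b⁻¹) * a⁻¹ * (a * b * a⁻¹ * b⁻¹)⁻¹ ∈ Subgroup.center ↥k.c.BB := by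
      have h := (Subgroup.mem_upperCentralSeries_succ_iff).1 hc a
      rw [Subgroup.upperCentralSeries_one] at h
      set c := a * b * a⁻¹ * b⁻¹
      rw [show a * c * a⁻¹ * c⁻¹ = (c * a * c⁻¹ * a⁻¹)⁻¹ by group]
      exact inv_mem h
    refine k.c.mem_W0 (k.c.BB_le (Subtype.prop (a * (a * b * a⁻¹ * b⁻¹) * a⁻¹ * (a * b * a⁻¹ * b⁻¹)⁻¹)))
      (congrArg Subtype.val (PGroups.elemAb_pow hcen hz)) fun c hc' => ?_
    exact congrArg Subtype.val (Subgroup.mem_center_iff.1 hz ⟨c, k.c.Jt_le_BB hc'⟩)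

end CData

end Cfsg.Agent.Lib.CharTransfer57
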