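import Cfsg.Agent.Lib.CharTransfer57.Char
import Cfsg.Agent.Lib.Cores.Basic
import Cfsg.Agent.Lib.PLocal.Thompson
import Cfsg.Agent.Lib.PLocal.Replacement
import Cfsg.Agent.Lib.Baumann.Module
import Cfsg.Agent.Lib.Frobenius.PComplement
import Cfsg.Prelude.Def_BaumannBlocks

/-!
# A constrained group with a unique maximal overgroup of the Sylow subgroup and no normal
characteristic subgroup of it
-/

set_option autoImplicit false
set_option linter.unusedSectionVars false

namespace Cfsg.Agent.Lib.CharTransfer57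

open Cfsg
open Cfsg.Agent.Lib

universe u

/-- The setting. -/
structure Ctx (G : Type u) [Group G] (p : ℕ) where
  S : Sylow p G
  M : Subgroup G
  hcon : Subgroup.centralizer (pCore p G : Set G) ≤ pCore p G
  hSM : (S : Subgroup G) ≤ M
  hM : M ≠ ⊤
  hover : ∀ H : Subgroup G, (S : Subgroup G) ≤ H → H ≠ ⊤ → H ≤ M
  hZ : ¬ (omegaOne p ((S : Subgroup G) ⊓ Subgroup.centralizer ((S : Subgroup G) : Set G))).Normal
  hJ : ¬ (thompsonSubgroupOf p (S : Subgroup G)).Normal
  hS : (S : Subgroup G) ≠ ⊥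

namespace Ctx

variable {G : Type u} [Group G] [Finite G] {p : ℕ} [hp : Fact p.Prime] (c : Ctx G p)

/-- The Sylow subgroup as a subgroup. -/
abbrev SS : Subgroup G := c.S

/-- `Ω₁(Z(O_p(G)))`. -/
abbrev Vv (_c : Ctx G p) : Subgroup G := omegaOneCenter p (pCore p G)

/-- `J(S)`. -/
abbrev Jt : Subgroup G := thompsonSubgroupOf p c.SS

/-- `Ω₁(Z(J(S)))`. -/
abbrev W0 : Subgroup G := omegaOne p (centerThompsonOf p c.SS)

/-- The Baumann subgroup. -/
abbrev BB : Subgroup G := baumannSubgroupOf p c.SS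

theorem hSp : IsPGroup p c.SS := c.S.isPGroup'

theorem P_le : pCore p G ≤ c.SS := Cores.pCore_le_sylow c.S

theorem normalizer_le {X : Subgroup G} (hX : CharIn X c.SS) (h : ¬ X.Normal) :
    Subgroup.normalizer (X : Set G) ≤ c.M :=
  c.hover _ hX.le_normalizer fun he => h (Subgroup.normalizer_eq_top_iff.1 he)

/-- A normal subgroup inside `M` meets `S` in `O_p(G)`. -/
theorem inf_le_of_normal {N : Subgroup G} [N.Normal] (hN : N ≤ c.M) : c.SS ⊓ N ≤ pCore p G := by
  have hSn : c.SS ≤ Subgroup.normalizer ((c.SS ⊓ N : Subgroup G) : Set G) := fun s hs =>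
    Subgroup.mem_normalizer_iff.2 fun x => by
      have hn : s * x * s⁻¹ ∈ N ↔ x ∈ N :=
        ⟨fun h => by simpa [mul_assoc] using Subgroup.Normal.conj_mem' inferInstance _ h s,
          fun h => Subgroup.Normal.conj_mem inferInstance x h s⟩
      have hs' : s * x * s⁻¹ ∈ c.SS ↔ x ∈ c.SS := by
        rw [c.SS.mul_mem_cancel_right (inv_mem hs), c.SS.mul_mem_cancel_left hs]
      simp only [Subgroup.mem_inf, hn, hs']
  by_cases he : Subgroup.normalizer ((c.SS ⊓ N : Subgroup G) : Set G) = ⊤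
  · haveI := Subgroup.normalizer_eq_top_iff.1 he
    exact Cores.le_pCore (c.hSp.to_le inf_le_left)
  · exact absurd (top_le_iff.1 ((PLocal.normalizer_inf_sup_eq_top c.S N).ge.trans
      (sup_le (c.hover _ hSn he) hN))) c.hM

theorem Vv_le_P : c.Vv ≤ pCore p G := (Baumann.omegaOneCenter_le p _).trans inf_le_left

theorem Vv_le_S : c.Vv ≤ c.SS := c.Vv_le_P.trans c.P_le

theorem P_le_cV : pCore p G ≤ Subgroup.centralizer (c.Vv : Set G) :=
  Subgroup.le_centralizer_iff.1 ((Baumann.omegaOneCenter_le p _).trans inf_le_right)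

theorem Vv_elem : IsElementaryAbelian p c.Vv :=
  PGroups.elemAb_omegaOne (PLocal.inf_centralizer_comm (pCore p G))

theorem Vv_pow {v : G} (hv : v ∈ c.Vv) : v ^ p = 1 := Baumann.omegaOneCenter_pow p _ hv

instance Vv_normal : (c.Vv).Normal :=
  Subgroup.normalizer_eq_top_iff.1 (top_le_iff.1
    ((Subgroup.normalizer_eq_top_iff.2 (inferInstance : (pCore p G).Normal)).ge.trans
      (Baumann.normalizer_le_omegaOneCenter p _)))

instance cV_normal : (Subgroup.centralizer (c.Vv : Set G)).Normal :=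
  Subgroup.normal_centralizer (H := c.Vv)

theorem omegaCenter_le_Vv : omegaOne p (c.SS ⊓ Subgroup.centralizer (c.SS : Set G)) ≤ c.Vv :=
  (Subgroup.closure_le _).2 fun x hx => Subgroup.subset_closure
    ⟨⟨c.hcon (Subgroup.centralizer_le c.P_le hx.1.2), Subgroup.centralizer_le c.P_le hx.1.2⟩, hx.2⟩

theorem omegaCenter_ne_bot : omegaOne p (c.SS ⊓ Subgroup.centralizer (c.SS : Set G)) ≠ ⊥ := by
  refine PGroups.omegaOne_ne_bot (c.hSp.to_le inf_le_left) fun h => ?_
  haveI : Nontrivial ↥c.SS := (Subgroup.nontrivial_iff_ne_bot _).2 c.hS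
  obtain ⟨z, hz, hz1⟩ := (Subgroup.nontrivial_iff_exists_ne_one _).1 c.hSp.center_nontrivial
  refine hz1 (Subtype.ext (Subgroup.mem_bot.1 (h ▸ ⟨z.2, ?_⟩)))
  exact Subgroup.mem_centralizer_iff.2 fun s hs =>
    congrArg Subtype.val (Subgroup.mem_center_iff.1 hz ⟨s, hs⟩)

theorem centralizer_omegaCenter_le :
    Subgroup.centralizer (omegaOne p (c.SS ⊓ Subgroup.centralizer (c.SS : Set G)) : Set G) ≤ c.M :=
  (Subgroup.centralizer_le_normalizer _).trans
    (c.normalizer_le (charIn_omegaCenter p _) c.hZ)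

theorem cV_le_M : Subgroup.centralizer (c.Vv : Set G) ≤ c.M :=
  (Subgroup.centralizer_le c.omegaCenter_le_Vv).trans c.centralizer_omegaCenter_le

theorem S_inf_cV : c.SS ⊓ Subgroup.centralizer (c.Vv : Set G) = pCore p G :=
  le_antisymm (c.inf_le_of_normal c.cV_le_M) (le_inf c.P_le c.P_le_cV)

theorem Jt_le : c.Jt ≤ c.SS := PGroups.thompsonSubgroupOf_le p _

theorem Jt_ne_bot : c.Jt ≠ ⊥ := Frobenius.PComplement.thompsonSubgroupOf_ne_bot c.hSp c.hS

theorem Jt_not_le_P : ¬ c.Jt ≤ pCore p G := fun h => by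
  refine c.hJ (Subgroup.normalizer_eq_top_iff.1 ?_)
  show Subgroup.normalizer ((thompsonSubgroupOf p c.SS : Subgroup G) : Set G) = ⊤
  rw [← PGroups.thompsonSubgroupOf_eq_of_le c.P_le h]
  exact top_le_iff.1 ((Subgroup.normalizer_eq_top_iff.2 (inferInstance : (pCore p G).Normal)).ge.trans
    (PGroups.normalizer_le_normalizer_thompson _))

theorem cStarStar_ne_top : cStarStarOf p c.SS ≠ ⊤ := fun h => c.hM (top_le_iff.1 (h.ge.trans
  (sup_le c.centralizer_omegaCenter_le (c.normalizer_le (charIn_thompson p _) c.hJ))))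

instance thompson_normal : (thompsonSubgroup p G).Normal :=
  Subgroup.normal_of_characteristic _

theorem Jt_le_thompson : c.Jt ≤ thompsonSubgroup p G := PLocal.thompsonSubgroupOf_sylow_le c.S

/-- `J(G) S = G`. -/
theorem thompson_sup_eq_top : thompsonSubgroup p G ⊔ c.SS = ⊤ := by
  by_contra he
  exact c.Jt_not_le_P ((le_inf c.Jt_le c.Jt_le_thompson).trans
    (c.inf_le_of_normal (le_sup_left.trans (c.hover _ le_sup_right he))))

theorem mem_maxIn_of_le {A : Subgroup G} (hA : A ∈ PGroups.maxElemAbIn p c.SS) {x : G} (hx : x ∈ c.SS)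
    (hxp : x ^ p = 1) (hc : ∀ a ∈ A, a * x = x * a) : x ∈ A := by
  by_contra hxA
  have hE : IsElementaryAbelian p (A ⊔ Subgroup.zpowers x) := by
    refine PGroups.elemAb_sup hA.2.1 (PGroups.elemAb_zpowers hxp) fun a ha b hb => ?_
    obtain ⟨k, rfl⟩ := hb
    exact Commute.zpow_right (hc a ha) k
  have h1 := PGroups.card_mul_le_card_of_mem (le_sup_left : A ≤ A ⊔ Subgroup.zpowers x)
    (PGroups.elemAb_isPGroup hE) (le_sup_right (a := A) (Subgroup.mem_zpowers x)) hxA
  have h2 := hA.2.2 _ (sup_le hA.1 (Subgroup.zpowers_le.2 hx)) hE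
  have h3 := hp.out.one_lt
  have h4 : 0 < Nat.card A := Nat.card_pos
  nlinarith

theorem W0_le_cJ : c.W0 ≤ Subgroup.centralizer (c.Jt : Set G) :=
  (PGroups.omegaOne_le p _).trans inf_le_right

theorem W0_le_Jt : c.W0 ≤ c.Jt := (PGroups.omegaOne_le p _).trans inf_le_left

theorem W0_le_S : c.W0 ≤ c.SS := c.W0_le_Jt.trans c.Jt_le

theorem W0_elem : IsElementaryAbelian p c.W0 :=
  PGroups.elemAb_omegaOne (PLocal.inf_centralizer_comm _)

theorem W0_le_of_max {A : Subgroup G} (hA : A ∈ PGroups.maxElemAbIn p c.SS) : c.W0 ≤ A := fun w hw =>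
  c.mem_maxIn_of_le hA (c.W0_le_S hw) (PGroups.elemAb_pow c.W0_elem hw) fun a ha =>
    Subgroup.mem_centralizer_iff.1 (c.W0_le_cJ hw) a (PGroups.le_thompsonSubgroupOf hA ha)

theorem mem_W0 {x : G} (hx : x ∈ c.SS) (hxp : x ^ p = 1) (hc : ∀ a ∈ c.Jt, a * x = x * a) : x ∈ c.W0 := by
  obtain ⟨A, hA⟩ := PGroups.maxElemAbIn_nonempty p c.SS
  exact Subgroup.subset_closure ⟨⟨PGroups.le_thompsonSubgroupOf hA
    (c.mem_maxIn_of_le hA hx hxp fun a ha => hc a (PGroups.le_thompsonSubgroupOf hA ha)),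
    Subgroup.mem_centralizer_iff.2 hc⟩, hxp⟩

theorem BB_def : c.BB = c.SS ⊓ Subgroup.centralizer (c.W0 : Set G) := rfl

theorem BB_charIn : CharIn c.BB c.SS :=
  ((charIn_centerThompson p _).omega p).inf_centralizer

theorem Jt_le_BB : c.Jt ≤ c.BB := le_inf c.Jt_le (Subgroup.le_centralizer_iff.1 c.W0_le_cJ)

theorem BB_le : c.BB ≤ c.SS := inf_le_left

theorem S_le_normalizer_BB : c.SS ≤ Subgroup.normalizer (c.BB : Set G) := c.BB_charIn.le_normalizer

theorem S_le_normalizer_Jt : c.SS ≤ Subgroup.normalizer (c.Jt : Set G) :=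
  (charIn_thompson p _).le_normalizer

theorem S_le_normalizer_W0 : c.SS ≤ Subgroup.normalizer (c.W0 : Set G) :=
  ((charIn_centerThompson p _).omega p).le_normalizer

end Ctx

end Cfsg.Agent.Lib.CharTransfer57
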