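import Cfsg.Agent.Lib.CharTransfer57.Final
import Cfsg.Agent.Lib.CharTransfer57.Functor
import Cfsg.Agent.Lib.CharTransfer57.Moved
import Cfsg.Agent.Lib.LocalCStar57.Setting
import Mathlib.GroupTheory.Focal

/-!
# Two normalizers control transfer for odd primes
-/

set_option autoImplicit false
set_option linter.unusedSectionVars false
set_option linter.style.haveILetI false

open Cfsg
open scoped commutatorElement IsMulCommutative

namespace Cfsg.Agent.Lib.CharTransfer57

open Cfsg.Agent.Lib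
open Cfsg.Agent.Lib.ConjFunctor
open Cfsg.Agent.Lib.RankOneFF (fixW)

universe u

variable {G : Type u} [Group G] [Finite G] {p : ℕ} [hp : Fact p.Prime]

/-- The functor seen inside a group, with the range named. -/
theorem map_Kfun' {Q : Type u} [Group Q] [Finite Q] (f : Q →* G) (hf : Function.Injective f)
    {S : Subgroup G} (hS : f.range = S) :
    (Kfun p Q).map f = (Kb p ↥(baumannSubgroupOf p S)).map (baumannSubgroupOf p S).subtype := by
  subst hS
  exact map_Kfun f hf

/-- If the Baumann subgroup is normal, so is the image of `Kb`. -/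
theorem Kb_normal_of_normal {B : Subgroup G} [B.Normal] : ((Kb p ↥B).map B.subtype).Normal := by
  refine ⟨fun x hx g => ?_⟩
  obtain ⟨b, hb, rfl⟩ := hx
  refine ⟨MulAut.conjNormal g b, ?_, MulAut.conjNormal_apply g b⟩
  rw [← Kb_map (MulAut.conjNormal g : MulAut ↥B)]
  exact ⟨b, hb, rfl⟩

/-- An element of order prime to `p` centralising the elements of order `p` of an abelian `p`-subgroup it
normalises centralises it. -/
theorem centralizes_of_omega {A : Subgroup G} [A.Normal] (hAc : ∀ a ∈ A, ∀ b ∈ A, a * b = b * a)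
    (hAp : IsPGroup p A) {d : G} (hd : (orderOf d).Coprime p)
    (h : ∀ a ∈ A, a ^ p = 1 → d * a = a * d) : ∀ a ∈ A, d * a = a * d := by
  have key : ∀ (k : ℕ), ∀ a ∈ A, a ^ p ^ k = 1 → d * a = a * d := by
    intro k
    induction k with
    | zero => intro a _ h1; rw [pow_zero, pow_one] at h1; rw [h1, mul_one, one_mul]
    | succ k ih =>
      intro a ha h1
      set z := d * a * d⁻¹ * a⁻¹ with hz
      have hzA : z ∈ A := mul_mem ((inferInstance : A.Normal).conj_mem a ha d) (inv_mem ha)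
      have h2 := ih (a ^ p) (pow_mem ha p) (by rw [← pow_mul, ← pow_succ']; exact h1)
      have hzp : z ^ p = 1 := by
        rw [hz, (show Commute (d * a * d⁻¹) a⁻¹ from
          hAc _ ((inferInstance : A.Normal).conj_mem a ha d) _ (inv_mem ha)).mul_pow, conj_pow, h2,
          mul_inv_cancel_right, inv_pow, mul_inv_cancel]
      have hzd : d * z * d⁻¹ = z := by rw [h z hzA hzp, mul_inv_cancel_right]
      have hn : ∀ n : ℕ, d ^ n * a * (d ^ n)⁻¹ = z ^ n * a := by
        intro n
        induction n with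
        | zero => simp
        | succ n ih' =>
          calc d ^ (n + 1) * a * (d ^ (n + 1))⁻¹ = d * (d ^ n * a * (d ^ n)⁻¹) * d⁻¹ := by
                rw [pow_succ' d n]; group
            _ = d * z ^ n * d⁻¹ * (z * a) := by rw [ih', hz]; group
            _ = z ^ (n + 1) * a := by rw [← conj_pow, hzd, pow_succ]; exact (mul_assoc _ _ _).symm
      have hzm := hn (orderOf d)
      rw [pow_orderOf_eq_one] at hzm
      have hz1 : z = 1 := orderOf_eq_one_iff.1 (Nat.eq_one_of_dvd_coprimes hd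
        (orderOf_dvd_of_pow_eq_one (by simpa using hzm.symm)) (orderOf_dvd_of_pow_eq_one hzp))
      calc d * a = z * (a * d) := by rw [hz]; group
        _ = a * d := by rw [hz1, one_mul]
  intro a ha
  obtain ⟨k, hk⟩ := hAp ⟨a, ha⟩
  exact key k a ha (congrArg Subtype.val hk)

/-- A normal subgroup inside the maximal subgroup over `S` meets `S` in `O_p(G)`. -/
theorem inf_le_pCore_of_le (S : Sylow p G) {M : Subgroup G} (hM : M ≠ ⊤)
    (hover : ∀ H : Subgroup G, (S : Subgroup G) ≤ H → H ≠ ⊤ → H ≤ M) {N : Subgroup G} [N.Normal]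
    (hN : N ≤ M) : (S : Subgroup G) ⊓ N ≤ pCore p G := by
  have hSn : (S : Subgroup G) ≤ Subgroup.normalizer (((S : Subgroup G) ⊓ N : Subgroup G) : Set G) :=
    fun s hs => Subgroup.mem_normalizer_iff.2 fun x => by
      have hn : s * x * s⁻¹ ∈ N ↔ x ∈ N :=
        ⟨fun h => by simpa [mul_assoc] using Subgroup.Normal.conj_mem' inferInstance _ h s,
          fun h => Subgroup.Normal.conj_mem inferInstance x h s⟩
      have hs' : s * x * s⁻¹ ∈ (S : Subgroup G) ↔ x ∈ (S : Subgroup G) := by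
        rw [Subgroup.mul_mem_cancel_right _ (inv_mem hs), Subgroup.mul_mem_cancel_left _ hs]
      simp only [Subgroup.mem_inf, hn, hs']
  by_cases he : Subgroup.normalizer (((S : Subgroup G) ⊓ N : Subgroup G) : Set G) = ⊤
  · haveI := Subgroup.normalizer_eq_top_iff.1 he
    exact Cores.le_pCore (S.2.to_le inf_le_left)
  · exact absurd (top_le_iff.1 ((PLocal.normalizer_inf_sup_eq_top S N).ge.trans
      (sup_le (hover _ hSn he) hN))) hM

section Hyp

variable (S : Sylow p G) {M : Subgroup G}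
  (hcon : Subgroup.centralizer (pCore p G : Set G) ≤ pCore p G)
  (hSM : (S : Subgroup G) ≤ M) (hM : M ≠ ⊤)
  (hover : ∀ H : Subgroup G, (S : Subgroup G) ≤ H → H ≠ ⊤ → H ≤ M)
  (hZS : Subgroup.normalizer (((S : Subgroup G) ⊓ Subgroup.centralizer ((S : Subgroup G) : Set G) :
    Subgroup G) : Set G) ≠ ⊤)

include hcon hSM hM hover hZS

/-- `C(Ω₁(Z(O_p(G))))` lies in the maximal subgroup over `S`. -/
theorem centralizer_vv_le : Subgroup.centralizer (LocalCStar57.vv p G : Set G) ≤ M := by
  classical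
  set A := pCore p G ⊓ Subgroup.centralizer (pCore p G : Set G) with hA
  haveI : (Subgroup.centralizer (pCore p G : Set G)).Normal := Subgroup.normal_centralizer (H := pCore p G)
  haveI hAn : A.Normal := by rw [hA]; exact Subgroup.normal_inf_normal _ _
  set C := Subgroup.centralizer (A : Set G) with hC
  haveI : C.Normal := Subgroup.normal_centralizer (H := A)
  have hCM : C ≤ M := by
    have hle : C ≤ Subgroup.centralizer (((S : Subgroup G) ⊓ Subgroup.centralizer ((S : Subgroup G) : Set G) :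
        Subgroup G) : Set G) := by
      refine Subgroup.centralizer_le fun z hz => ?_
      have hz' := Subgroup.centralizer_le (Cores.pCore_le_sylow S) hz.2
      exact ⟨hcon hz', hz'⟩
    refine hle.trans ((Subgroup.centralizer_le_normalizer _).trans (hover _ ?_ hZS))
    exact Subgroup.le_normalizer.trans ((charIn_self (S : Subgroup G)).inf_centralizer).normalizer_le
  set V := Subgroup.centralizer (LocalCStar57.vv p G : Set G) with hV
  by_cases htop : V ⊔ (S : Subgroup G) = ⊤
  swap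
  · exact le_sup_left.trans (hover _ le_sup_right htop)
  exfalso
  -- `V` is a `p`-group modulo `C`
  set π := QuotientGroup.mk' C with hπ
  have hVp : IsPGroup p (V.map π) := by
    rintro ⟨_, g, hg, rfl⟩
    set a := (orderOf g).factorization p
    set m := orderOf g / p ^ a with hm
    refine ⟨a, Subtype.ext (show π g ^ p ^ a = 1 from ?_)⟩
    rw [← map_pow]
    refine (QuotientGroup.eq_one_iff _).2 ?_
    rw [hC, Subgroup.mem_centralizer_iff]
    refine fun x hx => (centralizes_of_omega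
      (A := A) (fun u hu w hw => (Subgroup.mem_centralizer_iff.1 (Subgroup.mem_inf.1 hu).2 w (Subgroup.mem_inf.1 hw).1).symm)
      ((Cores.pCore_isPGroup p).to_le inf_le_left) ?_ (fun u hu hup => ?_) x hx).symm
    · refine Nat.Coprime.coprime_dvd_left (orderOf_dvd_of_pow_eq_one (n := m) ?_) ?_
      · rw [← pow_mul, hm, Nat.ordProj_mul_ordCompl_eq_self, pow_orderOf_eq_one]
      · rw [Nat.coprime_comm, hp.out.coprime_iff_not_dvd, hm]
        exact Nat.not_dvd_ordCompl hp.out (orderOf_pos g).ne'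
    · exact (Subgroup.mem_centralizer_iff.1 (pow_mem hg _) u (Subgroup.subset_closure ⟨hu, hup⟩)).symm
  haveI : (V.map π).Normal := by
    haveI : V.Normal := Subgroup.normal_centralizer (H := LocalCStar57.vv p G)
    exact Subgroup.Normal.map inferInstance _ (QuotientGroup.mk'_surjective _)
  have hp2 : IsPGroup p ↥((V.map π) ⊔ (S : Subgroup G).map π : Subgroup (G ⧸ C)) :=
    hVp.to_sup_of_normal_left (S.2.map π)
  rw [← Subgroup.map_sup, htop, Subgroup.map_top_of_surjective _ (QuotientGroup.mk'_surjective _)] at hp2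
  have hS' : ((S : Subgroup G).map π) = ⊤ := by
    have := (S.mapSurjective (QuotientGroup.mk'_surjective C)).3 hp2 le_top
    simpa using this.symm
  have h := congrArg (Subgroup.comap π) hS'
  rw [Subgroup.comap_map_eq, QuotientGroup.ker_mk', Subgroup.comap_top] at h
  exact hM (top_le_iff.1 (h.ge.trans (sup_le hSM hCM)))

/-- `S ∩ C(Ω₁(Z(O_p(G)))) ≤ O_p(G)`. -/
theorem inf_centralizer_vv_le :
    (S : Subgroup G) ⊓ Subgroup.centralizer (LocalCStar57.vv p G : Set G) ≤ pCore p G := by
  haveI : (Subgroup.centralizer (LocalCStar57.vv p G : Set G)).Normal :=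
    Subgroup.normal_centralizer (H := LocalCStar57.vv p G)
  exact inf_le_pCore_of_le S hM hover (centralizer_vv_le S hcon hSM hM hover hZS)

/-- `J(S)` is not normal unless the image of `Kb` is. -/
theorem thompson_not_normal
    (hK : ¬ ((Kb p ↥(baumannSubgroupOf p (S : Subgroup G))).map
      (baumannSubgroupOf p (S : Subgroup G)).subtype).Normal) :
    ¬ (thompsonSubgroupOf p (S : Subgroup G)).Normal := by
  intro hn
  set J := thompsonSubgroupOf p (S : Subgroup G) with hJ
  haveI := hn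
  have hJS : J ≤ (S : Subgroup G) := PGroups.thompsonSubgroupOf_le p _
  have hJP : J ≤ pCore p G := Cores.le_pCore (S.2.to_le hJS)
  set W0 := omegaOne p (centerThompsonOf p (S : Subgroup G)) with hW0
  have hvP : LocalCStar57.vv p G ≤ pCore p G := LocalCStar57.Ctx.vv_le_P (p := p) (G := G)
  have hVW : LocalCStar57.vv p G ≤ W0 := by
    intro v hv
    have hvc : ∀ a ∈ J, a * v = v * a := fun a ha =>
      Subgroup.mem_centralizer_iff.1 ((Baumann.omegaOneCenter_le p _).trans inf_le_right <| hv) a (hJP ha)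
    have hvp : v ^ p = 1 := Baumann.omegaOneCenter_pow p _ hv
    refine Subgroup.subset_closure ⟨⟨?_, Subgroup.mem_centralizer_iff.2 hvc⟩, hvp⟩
    obtain ⟨A, hA⟩ := PGroups.maxElemAbIn_nonempty p (S : Subgroup G)
    by_contra hvJ
    have hAJ : A ≤ J := PGroups.le_thompsonSubgroupOf hA
    have hvA : v ∉ A := fun h => hvJ (hAJ h)
    have hE : IsElementaryAbelian p (A ⊔ Subgroup.zpowers v) := by
      refine PGroups.elemAb_sup hA.2.1 (PGroups.elemAb_zpowers hvp) fun a ha b hb => ?_
      obtain ⟨k, rfl⟩ := hb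
      exact Commute.zpow_right (hvc a (hAJ ha)) k
    have h1 := PGroups.card_mul_le_card_of_mem (le_sup_left : A ≤ A ⊔ Subgroup.zpowers v)
      (PGroups.elemAb_isPGroup hE) (le_sup_right (a := A) (Subgroup.mem_zpowers v)) hvA
    have h2 := hA.2.2 _ (sup_le hA.1 (Subgroup.zpowers_le.2 (Cores.pCore_le_sylow S (hvP hv)))) hE
    have h3 := hp.out.one_lt
    have h4 : 0 < Nat.card A := Nat.card_pos
    nlinarith
  haveI hW0n : W0.Normal := Subgroup.normalizer_eq_top_iff.1 (top_le_iff.1 fun g _ => by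
    refine PGroups.mem_normalizer_of_map_conj_eq ?_
    rw [hW0, PGroups.map_omegaOne_of_injective _ (MulAut.conj g).injective,
      PGroups.map_conj_eq_of_mem_normalizer (PGroups.normalizer_thompson_le_normalizer_centerThompson _
        ((Subgroup.normalizer_eq_top_iff.2 hn).symm ▸ Subgroup.mem_top g))])
  haveI : (Subgroup.centralizer (W0 : Set G)).Normal := Subgroup.normal_centralizer (H := W0)
  have hB : baumannSubgroupOf p (S : Subgroup G) = pCore p G ⊓ Subgroup.centralizer (W0 : Set G) := by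
    refine le_antisymm (le_inf ?_ inf_le_right) (inf_le_inf_right _ (Cores.pCore_le_sylow S))
    exact (inf_le_inf_left _ (Subgroup.centralizer_le hVW)).trans (inf_centralizer_vv_le S hcon hSM hM hover hZS)
  haveI : (baumannSubgroupOf p (S : Subgroup G)).Normal := by
    rw [hB]; exact Subgroup.normal_inf_normal _ _
  exact hK Kb_normal_of_normal

/-- `Ω₁(Z(S))` is not normal. -/
theorem omegaCenter_not_normal (hp2 : p ≠ 2) (hJ : ¬ (thompsonSubgroupOf p (S : Subgroup G)).Normal) :
    ¬ (omegaOne p ((S : Subgroup G) ⊓ Subgroup.centralizer ((S : Subgroup G) : Set G))).Normal := by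
  intro hn
  set Z := omegaOne p ((S : Subgroup G) ⊓ Subgroup.centralizer ((S : Subgroup G) : Set G)) with hZ
  haveI := hn
  haveI : (Subgroup.centralizer (Z : Set G)).Normal := Subgroup.normal_centralizer (H := Z)
  have hSC : (S : Subgroup G) ≤ Subgroup.centralizer (Z : Set G) :=
    Subgroup.le_centralizer_iff.1 ((PGroups.omegaOne_le p _).trans inf_le_right)
  have hNS : Subgroup.normalizer ((S : Subgroup G) : Set G) ≠ ⊤ := fun h => by
    refine hJ (Subgroup.normalizer_eq_top_iff.1 (top_le_iff.1 ?_))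
    exact h.ge.trans (PGroups.normalizer_le_normalizer_thompson _)
  have hcent : Subgroup.centralizer (Z : Set G) = ⊤ := by
    by_contra hne
    refine hM (top_le_iff.1 ((PLocal.normalizer_inf_sup_eq_top S (Subgroup.centralizer (Z : Set G))).ge.trans
      (sup_le ?_ (hover _ hSC hne))))
    rw [inf_eq_left.2 hSC]
    exact hover _ Subgroup.le_normalizer hNS
  -- the action on `Ω₁(Z(O_p(G)))`
  set V := LocalCStar57.vv p G with hV
  have hcV : Subgroup.centralizer (V : Set G) ≤ M := centralizer_vv_le S hcon hSM hM hover hZS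
  set π := LocalCStar57.proj V with hπ
  have hsurj : Function.Surjective π := QuotientGroup.mk'_surjective _
  set M' := M.map π with hM'
  set T := S.mapSurjective hsurj with hT
  have hTc : (T : Subgroup (LocalCStar57.Act V)) = (S : Subgroup G).map π := Sylow.coe_mapSurjective _ _
  have hcomap : M'.comap π = M := by
    rw [hM', Subgroup.comap_map_eq, QuotientGroup.ker_mk', sup_eq_left]
    exact hcV
  have hM'top : M' ≠ ⊤ := fun h => hM (by rw [← hcomap, h, Subgroup.comap_top])
  have hTM : (T : Subgroup (LocalCStar57.Act V)) ≤ M' := by rw [hTc]; exact Subgroup.map_mono hSM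
  have honly : NoStrict.OnlyIn (T : Subgroup (LocalCStar57.Act V)) M' := by
    intro Y hY hne
    have h1 : Y.comap π ≠ ⊤ := fun h => hne (by
      rw [← Subgroup.map_comap_eq_self_of_surjective hsurj Y, h, Subgroup.map_top_of_surjective _ hsurj])
    have h2 : (S : Subgroup G) ≤ Y.comap π := Subgroup.map_le_iff_le_comap.1 (hTc ▸ hY)
    rw [← Subgroup.map_comap_eq_self_of_surjective hsurj Y, hM']
    exact Subgroup.map_mono (hover _ h2 h1)
  have hO : pCore p (LocalCStar57.Act V) = ⊥ := by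
    have hle : pCore p (LocalCStar57.Act V) ≤ (S : Subgroup G).map π := hTc ▸ Cores.pCore_le_sylow T
    have hNM : (pCore p (LocalCStar57.Act V)).comap π ≤ M := hcomap ▸ Subgroup.comap_mono (hle.trans (hTc ▸ hTM))
    refine (Subgroup.eq_bot_iff_forall _).2 fun x hx => ?_
    obtain ⟨t, ht, rfl⟩ := hle hx
    exact LocalCStar57.proj_eq_one.2 (LocalCStar57.Ctx.P_le_cV
      (inf_le_pCore_of_le S hM hover hNM ⟨ht, hx⟩))
  obtain ⟨A, hA, hAV⟩ : ∃ A ∈ PGroups.maxElemAbIn p (S : Subgroup G), ¬ A ≤ Subgroup.centralizer (V : Set G) := by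
    by_contra hcon'
    push Not at hcon'
    have hJP : thompsonSubgroupOf p (S : Subgroup G) ≤ pCore p G := by
      refine (le_inf (PGroups.thompsonSubgroupOf_le p _) ?_).trans (inf_centralizer_vv_le S hcon hSM hM hover hZS)
      rw [PGroups.thompsonSubgroupOf_eq]
      exact sSup_le hcon'
    refine hJ (Subgroup.normalizer_eq_top_iff.1 (top_le_iff.1 ?_))
    rw [← PGroups.thompsonSubgroupOf_eq_of_le (Cores.pCore_le_sylow S) hJP]
    exact (Subgroup.normalizer_eq_top_iff.2 (inferInstance :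
      (pCore p G).Normal)).ge.trans (PGroups.normalizer_le_normalizer_thompson _)
  obtain ⟨u, hu, x, hx⟩ := exists_moved hp2
    (LocalCStar57.exp_eq_zero fun v hv => Baumann.omegaOneCenter_pow p _ hv) T hM'top hTM honly hO
    (LocalCStar57.exact_of_max (LocalCStar57.vv_elem p G) (PLocal.maxElemAbIn_sylow_subset S hA))
    (fun h => hAV fun a ha => LocalCStar57.proj_eq_one.1 (Subgroup.mem_bot.1 (h ▸ Subgroup.mem_map_of_mem _ ha)))
  obtain ⟨g, rfl⟩ := hsurj x
  rw [hTc, LocalCStar57.mem_fixW_iff] at hu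
  have huV : (u.toMul : G) ∈ V := u.toMul.2
  have huS : (u.toMul : G) ∈ (S : Subgroup G) := Cores.pCore_le_sylow S (LocalCStar57.Ctx.vv_le_P huV)
  have huZ : (u.toMul : G) ∈ Z := Subgroup.subset_closure ⟨⟨huS, hu⟩, Baumann.omegaOneCenter_pow p _ huV⟩
  exact hx (LocalCStar57.smul_eq_iff.2
    (Subgroup.mem_centralizer_iff.1 (hcent.symm ▸ Subgroup.mem_top g : g ∈ Subgroup.centralizer (Z : Set G)) _ huZ).symm)

end Hyp

namespace CData

variable (k : CData G p)

theorem omZ_map : (PushUpP.omZ p ↥k.c.BB).map k.c.BB.subtype = k.c.W0 := by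
  refine le_antisymm ?_ fun w hw => ?_
  · rintro _ ⟨z, ⟨hz, hzp⟩, rfl⟩
    exact k.c.mem_W0 (k.c.BB_le z.2) (congrArg Subtype.val hzp) fun a ha =>
      congrArg Subtype.val (Subgroup.mem_center_iff.1 hz ⟨a, k.c.Jt_le_BB ha⟩)
  · have hwB : w ∈ k.c.BB := k.c.Jt_le_BB (k.c.W0_le_Jt hw)
    refine ⟨⟨w, hwB⟩, ⟨Subgroup.mem_center_iff.2 fun b => Subtype.ext ?_, Subtype.ext (PGroups.elemAb_pow k.c.W0_elem hw)⟩, rfl⟩
    exact (Subgroup.mem_centralizer_iff.1 b.2.2 w hw).symm

/-- A subgroup of `B(S)` normal in `L` and normalised by `S` is normal in `G`. -/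
theorem normal_of_map_normal {L : Subgroup ↥k.d.E} {i : Fin k.d.r} (hB : k.c.BB.subgroupOf k.d.E ≤ L)
    (hL : L.map (k.proj i) = ⊤) {X : Subgroup ↥k.c.BB} (hXS : k.c.SS ≤
      Subgroup.normalizer ((X.map k.c.BB.subtype : Subgroup G) : Set G))
    (hn : (X.map (k.incl L hB)).Normal) : (X.map k.c.BB.subtype).Normal := by
  refine Subgroup.normalizer_eq_top_iff.1 (top_le_iff.1 ?_)
  rw [← k.sup_eq_top i hL]
  refine sup_le ?_ hXS
  rintro _ ⟨e, he, rfl⟩
  refine Subgroup.mem_normalizer_iff.2 ?_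
  have key : ∀ e ∈ L, ∀ z ∈ X.map k.c.BB.subtype, (e : G) * z * (e : G)⁻¹ ∈ X.map k.c.BB.subtype := by
    rintro e he _ ⟨a, ha, rfl⟩
    obtain ⟨b, hb, hbe⟩ := hn.conj_mem _ (Subgroup.mem_map_of_mem (k.incl L hB) ha) ⟨e, he⟩
    exact ⟨b, hb, congrArg (fun z : ↥L => ((z : ↥k.d.E) : G)) hbe⟩
  intro z
  refine ⟨key e he z, fun hz => ?_⟩
  have h := key e⁻¹ (inv_mem he) _ hz
  simpa [mul_assoc] using h

/-- If the image of `Kb` is not normal, some element of `B(S)` outside `O_p(G)` has small degree. -/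
theorem exists_smallDegree_K (hp2 : p ≠ 2)
    (hK : ¬ ((Kb p ↥k.c.BB).map k.c.BB.subtype).Normal) :
    ∃ v ∈ k.c.SS, v ∉ pCore p G ∧ ConjFunctor.Fixed.SmallDegree p v (pCore p G) := by
  obtain ⟨L, i, hB, hL, hpush⟩ := k.exists_pushingUp
  set τ := k.incl L hB with hτ
  have hτinj : Function.Injective τ := fun a b h =>
    Subtype.ext (congrArg (fun z : ↥L => ((z : ↥k.d.E) : G)) h)
  set ι : ↥L →* G := k.d.E.subtype.comp L.subtype with hι
  have hιinj : Function.Injective ι := k.d.E.subtype_injective.comp L.subtype_injective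
  have hιτ : ι.comp τ = k.c.BB.subtype := rfl
  have hZι : ∀ x : ↥L, x ∈ (PushUpP.omZ p ↥k.c.BB).map τ ↔ ι x ∈ k.c.W0 := fun x => by
    rw [← k.omZ_map, ← hιτ, ← Subgroup.map_map, Subgroup.mem_map_iff_mem hιinj]
  have hKn : ¬ NoQuad p ↥k.c.BB ↥L τ := by
    intro h
    refine hK (k.normal_of_map_normal hB hL ?_ (Kb_normal h))
    exact ((charIn_map (Subgroup.characteristic_iff_map_eq.2 fun φ => Kb_map φ)).trans k.c.BB_charIn).le_normalizer
  -- `Ω₁(Z(B))` is not normal
  have hZn : ¬ ((PushUpP.omZ p ↥k.c.BB).map τ).Normal := by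
    intro hn
    have hW0n : k.c.W0.Normal := by
      rw [← k.omZ_map]
      refine k.normal_of_map_normal hB hL ?_ hn
      rw [k.omZ_map]
      exact k.c.S_le_normalizer_W0
    haveI := hW0n
    haveI : (Subgroup.centralizer (k.c.W0 : Set G)).Normal := Subgroup.normal_centralizer (H := k.c.W0)
    set Z := omegaOne p (k.c.SS ⊓ Subgroup.centralizer (k.c.SS : Set G)) with hZ
    have hZW : Z ≤ k.c.W0 := (Subgroup.closure_le _).2 fun z hz => k.c.mem_W0 hz.1.1 hz.2 fun a ha =>
      Subgroup.mem_centralizer_iff.1 hz.1.2 a (k.c.Jt_le ha)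
    refine k.c.hM (top_le_iff.1 (k.c.thompson_sup_eq_top.ge.trans (sup_le ?_ k.c.hSM)))
    refine le_trans ?_ ((Subgroup.centralizer_le hZW).trans k.c.centralizer_omegaCenter_le)
    rw [PLocal.thompsonSubgroup_eq_iSup]
    refine iSup_le fun Q => ?_
    obtain ⟨g, hg⟩ := MulAction.exists_smul_eq G k.c.S Q
    rw [← hg, Sylow.coe_subgroup_smul, Subgroup.pointwise_smul_def]
    refine le_of_eq_of_le (PGroups.thompsonSubgroupOf_conj g k.c.SS).symm ?_
    rintro _ ⟨a, ha, rfl⟩
    exact (inferInstance : (Subgroup.centralizer (k.c.W0 : Set G)).Normal).conj_mem a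
      (Subgroup.le_centralizer_iff.1 k.c.W0_le_cJ ha) g
  -- a largest elementary abelian subgroup outside `O_p(L)`
  have hPQ : (pCore p G ⊓ k.c.BB).comap ι ≤ pCore p ↥L :=
    Cores.le_pCore (((Cores.pCore_isPGroup p).to_le inf_le_left).comap_of_injective ι hιinj)
  have hout : ∃ A ∈ PGroups.maxElemAbIn p (⊤ : Subgroup ↥k.c.BB), ¬ A.map τ ≤ pCore p ↥L := by
    by_contra hcon
    push Not at hcon
    -- then `proj i` kills `J(S)`
    obtain ⟨a, ha, -⟩ := k.uSL_range_eq i ⟨Multiplicative.ofAdd (1 : k.d.F i), rfl⟩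
    have hle : k.c.Jt.subgroupOf k.c.BB ≤ (pCore p ↥L).comap τ := by
      have h1 : k.c.Jt ≤ ((pCore p ↥L).comap τ).map k.c.BB.subtype := by
        show thompsonSubgroupOf p k.c.SS ≤ _
        rw [PGroups.thompsonSubgroupOf_eq]
        refine sSup_le fun A hA => ?_
        have hAB : A ≤ k.c.BB := (PGroups.le_thompsonSubgroupOf hA).trans k.c.Jt_le_BB
        rw [← Subgroup.map_subgroupOf_eq_of_le hAB]
        refine Subgroup.map_mono (Subgroup.map_le_iff_le_comap.1 (hcon _ ⟨le_top, ?_, fun C _ hC => ?_⟩))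
        · exact PGroups.elemAb_mk (fun x hx y hy => Subtype.ext (PGroups.elemAb_comm hA.2.1 hx hy))
            fun x hx => Subtype.ext (PGroups.elemAb_pow hA.2.1 hx)
        · rw [Nat.card_congr (Subgroup.subgroupOfEquivOfLe hAB).toEquiv,
            ← Subgroup.card_map_of_injective k.c.BB.subtype_injective]
          exact hA.2.2 _ ((Subgroup.map_subtype_le C).trans k.c.BB_le) (PGroups.elemAb_map _ hC)
      exact fun x hx => by
        obtain ⟨y, hy, he⟩ := h1 hx
        rwa [← Subtype.ext he]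
    have h1 : τ ⟨a, k.c.Jt_le_BB a.2⟩ ∈ pCore p ↥L := hle a.2
    set π := (k.proj i).comp L.subtype with hπ
    have hπs : Function.Surjective π := fun g => by
      obtain ⟨e, he, h⟩ : g ∈ L.map (k.proj i) := hL ▸ Subgroup.mem_top g
      exact ⟨⟨e, he⟩, h⟩
    have h2 : π (τ ⟨a, k.c.Jt_le_BB a.2⟩) = 1 := by
      have h3 := Cores.map_pCore_le (p := p) π hπs ⟨_, h1, rfl⟩
      obtain ⟨n, -, hn⟩ := Linear.exists_card_eq_pow (F := k.d.F i) p
      rw [LAEven57.PushingUp.pCore_psl (p := p) hn] at h3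
      exact h3
    have h4 : Linear.uSL (Multiplicative.ofAdd (1 : k.d.F i)) ∈ Subgroup.center (LAEven57.PushingUp.SL2 (k.d.F i)) := by
      rw [← ha]
      exact (QuotientGroup.eq_one_iff _).1 h2
    have h5 := congrArg (fun g : LAEven57.PushingUp.SL2 (k.d.F i) => (g : Matrix (Fin 2) (Fin 2) (k.d.F i)) 1 1)
      (Subgroup.mem_center_iff.1 h4 (LAEven57.PushingUp.lMat 1))
    simp only [Matrix.SpecialLinearGroup.coe_mul, Linear.coe_uSL] at h5
    simp [LAEven57.PushingUp.lMat, Matrix.mul_apply, Fin.sum_univ_two] at h5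
  obtain ⟨s, hs, hsQ⟩ : ∃ s : ↥k.c.BB,
      (∀ q ∈ pCore p ↥L, ⁅τ s, ⁅τ s, q⁆⁆ ∈ (PushUpP.omZ p ↥k.c.BB).map τ) ∧ τ s ∉ pCore p ↥L := by
    by_contra hcon
    push Not at hcon
    exact hKn ⟨hτinj, hpush, hZn, hout, hcon⟩
  refine ⟨s, k.c.BB_le s.2, fun hsP => hsQ (hPQ ⟨hsP, s.2⟩), k.smallDegree_of hp2 s.2 fun x hx => ?_⟩
  have hxL : ∃ q : ↥L, ι q = x := ⟨τ ⟨x, hx.2⟩, rfl⟩
  obtain ⟨q, rfl⟩ := hxL
  have h := (hZι _).1 (hs q (hPQ hx))
  rwa [map_commutatorElement, map_commutatorElement] at h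

end CData

/-- The two functors. -/
def twoW (p : ℕ) : Set (∀ (Q : Type u) [Group Q], Subgroup Q) :=
  {W | W = (fun (Q : Type u) (i : Group Q) => @Subgroup.center Q i) ∨ W = Kfun p}

theorem isCharPFunctor_twoW (hp2 : p ≠ 2) : ∀ W ∈ twoW.{u} p, IsCharPFunctor.{u} p W := by
  rintro W (rfl | rfl)
  · refine ⟨fun Q _ _ hQ hnt h => ?_, fun Q R _ _ _ _ φ => ?_⟩
    · haveI := hnt
      exact (Subgroup.nontrivial_iff_ne_bot _).1 hQ.center_nontrivial h
    · ext r
      obtain ⟨q, rfl⟩ := φ.surjective r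
      rw [show φ q = φ.toMonoidHom q from rfl, Subgroup.mem_map_iff_mem φ.injective]
      simp only [Subgroup.mem_center_iff]
      refine ⟨fun h y => ?_, fun h x => φ.injective ?_⟩
      · obtain ⟨x, rfl⟩ := φ.surjective y
        show φ x * φ q = φ q * φ x
        rw [← map_mul, ← map_mul, h x]
      · rw [map_mul, map_mul]; exact h _
  · exact isCharPFunctor_Kfun hp2

theorem inducedFunctor_center (S : Subgroup G) :
    inducedFunctor (fun Q _ => Subgroup.center Q) S = S ⊓ Subgroup.centralizer (S : Set G) := by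
  ext x
  constructor
  · rintro ⟨z, hz, rfl⟩
    exact ⟨z.2, Subgroup.mem_centralizer_iff.2 fun s hs =>
      congrArg Subtype.val (Subgroup.mem_center_iff.1 hz ⟨s, hs⟩)⟩
  · rintro ⟨hx, hc⟩
    exact ⟨⟨x, hx⟩, Subgroup.mem_center_iff.2 fun s =>
      Subtype.ext (Subgroup.mem_centralizer_iff.1 hc s s.2), rfl⟩

theorem tr_two (hCS : CStarHyp.{u} p) (hp2 : p ≠ 2) (X₀ : Type u) [Group X₀] [Finite X₀] :
    Section.Tr (twoW.{u} p) p X₀ := by
  have h𝓦 := isCharPFunctor_twoW.{u} (p := p) hp2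
  have hne : (twoW.{u} p).Nonempty := ⟨_, Or.inr rfl⟩
  refine Failure.tr_induction (G := X₀) h𝓦 (fun K R _ hsub hquot => ?_) X₀ (Section.IsSection.refl X₀)
  by_contra hfail
  obtain ⟨S⟩ := (inferInstance : Nonempty (Sylow p (↥K ⧸ R.subgroupOf K)))
  set X := ↥K ⧸ R.subgroupOf K
  set D := Reach.trGen (Local.nFam (Section.indSet (twoW.{u} p) X)) ⊤ (S : Subgroup X) ⊓ pCore p X
  have hS : (S : Subgroup X) ≠ ⊥ := fun h =>
    Failure.not_le_pCore h𝓦 hne hfail S (h.le.trans bot_le)
  have hcon := Failure.constrained h𝓦 hsub hquot hfail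
  have hSM : (S : Subgroup X) ≤ Subgroup.normalizer (D : Set X) :=
    Failure.le_normalizer_of_ne_top h𝓦 hne hsub hfail S (Failure.sylow_ne_top h𝓦 hne hsub hfail S) le_rfl
  have hM := Failure.normalizer_ne_top h𝓦 hne hsub hquot hfail S
  have hover : ∀ H : Subgroup X, (S : Subgroup X) ≤ H → H ≠ ⊤ → H ≤ Subgroup.normalizer (D : Set X) :=
    fun H hSH hH => Failure.le_normalizer_of_ne_top h𝓦 hne hsub hfail S hH hSH
  have hW : ∀ W ∈ twoW.{u} p,
      Subgroup.normalizer ((inducedFunctor W (S : Subgroup X) : Subgroup X) : Set X) ≠ ⊤ :=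
    fun W hW h => Failure.not_trAt h𝓦 hfail S (Failure.trAt_of_normalizer_eq_top S hW h)
  have hZS := hW _ (Or.inl rfl)
  rw [inducedFunctor_center] at hZS
  have hK : ¬ ((Kb p ↥(baumannSubgroupOf p (S : Subgroup X))).map
      (baumannSubgroupOf p (S : Subgroup X)).subtype).Normal := fun hn => by
    refine hW _ (Or.inr rfl) (Subgroup.normalizer_eq_top_iff.2 ?_)
    rwa [inducedFunctor, map_Kfun' _ (S : Subgroup X).subtype_injective (Subgroup.range_subtype _)]
  have hJ := thompson_not_normal S hcon hSM hM hover hZS hK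
  let c : Ctx X p :=
    { S := S
      M := Subgroup.normalizer (D : Set X)
      hcon := hcon
      hSM := hSM
      hM := hM
      hover := hover
      hZ := omegaCenter_not_normal S hcon hSM hM hover hZS hp2 hJ
      hJ := hJ
      hS := hS }
  obtain ⟨r, E, hE⟩ := hCS X c
  obtain ⟨k, hk⟩ := c.exists_cdata hE
  have hK' : ¬ ((Kb p ↥k.c.BB).map k.c.BB.subtype).Normal := by rw [hk]; exact hK
  obtain ⟨v, hv, hvP, hdeg⟩ := k.exists_smallDegree_K hp2 hK'
  rw [hk] at hv
  exact Failure.not_smallDegree h𝓦 hne hsub hquot hfail S hv hvP hdeg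

/-- A transfer step through the centre. -/
theorem inf_commutator_normalizer_le (S : Sylow p G) (Z : Subgroup G)
    (hSC : (S : Subgroup G) ≤ Subgroup.centralizer (Z : Set G)) {D : Subgroup G}
    (h1 : (S : Subgroup G) ⊓ ⁅Subgroup.centralizer (Z : Set G), Subgroup.centralizer (Z : Set G)⁆ ≤ D)
    (h2 : (S : Subgroup G) ⊓ ⁅Subgroup.normalizer ((S : Subgroup G) : Set G),
      Subgroup.normalizer ((S : Subgroup G) : Set G)⁆ ≤ D) :
    (S : Subgroup G) ⊓ ⁅Subgroup.normalizer (Z : Set G), Subgroup.normalizer (Z : Set G)⁆ ≤ D := by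
  set N := Subgroup.normalizer (Z : Set G) with hN
  set NS := Subgroup.normalizer ((S : Subgroup G) : Set G) with hNS
  set C := Subgroup.centralizer (Z : Set G) with hC
  have hCN : C ≤ N := Subgroup.centralizer_le_normalizer _
  set S' : Sylow p ↥N := S.subtype (hSC.trans hCN) with hS'
  haveI : (C.subgroupOf N).Normal := Subgroup.normal_subgroupOf_of_le_normalizer fun g hg =>
    Subgroup.mem_normalizer_fintype fun c hc => Subgroup.mem_centralizer_iff.2 fun z hz => by
      have h := Subgroup.mem_centralizer_iff.1 hc _ ((Subgroup.mem_normalizer_iff''.1 hg z).1 hz)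
      calc z * (g * c * g⁻¹) = g * ((g⁻¹ * z * g) * c) * g⁻¹ := by group
        _ = g * (c * (g⁻¹ * z * g)) * g⁻¹ := by rw [h]
        _ = g * c * g⁻¹ * z := by group
  have hfr : Subgroup.normalizer ((S' : Subgroup ↥N) : Set ↥N) ⊔ C.subgroupOf N = ⊤ := by
    have h := PLocal.normalizer_inf_sup_eq_top S' (C.subgroupOf N)
    rwa [inf_eq_left.2 (show (S' : Subgroup ↥N) ≤ C.subgroupOf N from fun x hx => hSC hx)] at h
  intro y hy
  have hyN : y ∈ N := hCN (hSC hy.1)
  have hy' : (⟨y, hyN⟩ : ↥N) ∈ commutator ↥N ⊓ (S' : Subgroup ↥N) := by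
    refine ⟨?_, hy.1⟩
    have h := hy.2
    rw [← Subgroup.map_subtype_commutator] at h
    obtain ⟨w, hw, he⟩ := h
    rwa [← (Subtype.ext he : w = ⟨y, hyN⟩)]
  rw [Subgroup.commutator_inf_eq_focalSubgroup] at hy'
  show N.subtype ⟨y, hyN⟩ ∈ D
  refine (Subgroup.closure_le (D.comap N.subtype)).2 ?_ hy'
  rintro g ⟨hg, a, ha, u, rfl⟩
  obtain ⟨n, hn, c, hc, rfl⟩ := Subgroup.mem_sup_of_normal_right.1 (hfr.ge (Subgroup.mem_top u))
  have hnS : (n : G) ∈ NS := by
    refine Subgroup.mem_normalizer_fintype fun x hx => ?_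
    have h := (Subgroup.mem_normalizer_iff.1 hn ⟨x, hCN (hSC hx)⟩).1 hx
    exact h
  have haS : (a : G) ∈ (S : Subgroup G) := ha
  have hgS : ⁅(a : G), (n : G) * c⁆ ∈ (S : Subgroup G) := hg
  show ⁅(a : G), (n : G) * c⁆ ∈ D
  have e : ⁅(a : G), (n : G) * c⁆ = ⁅(a : G), (n : G)⁆ * ((n : G) * ⁅(a : G), (c : G)⁆ * (n : G)⁻¹) := by
    simp only [commutatorElement_def]; group
  have hanS : ⁅(a : G), (n : G)⁆ ∈ (S : Subgroup G) := by
    rw [commutatorElement_def, mul_assoc (a : G) n, mul_assoc (a : G)]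
    exact mul_mem haS ((Subgroup.mem_normalizer_iff.1 hnS _).1 (inv_mem haS))
  rw [e] at hgS ⊢
  have hwS : ⁅(a : G), (c : G)⁆ ∈ (S : Subgroup G) :=
    (Subgroup.mem_normalizer_iff.1 hnS _).2 ((Subgroup.mul_mem_cancel_left (S : Subgroup G) hanS).1 hgS)
  set w := ⁅(a : G), (c : G)⁆ with hw
  refine mul_mem (h2 ⟨hanS, Subgroup.commutator_mem_commutator (Subgroup.le_normalizer haS) hnS⟩) ?_
  rw [show (n : G) * w * (n : G)⁻¹ = ⁅(n : G), w⁆ * w by simp only [commutatorElement_def]; group]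
  refine mul_mem (h2 ⟨?_, Subgroup.commutator_mem_commutator hnS (Subgroup.le_normalizer hwS)⟩)
    (h1 ⟨hwS, Subgroup.commutator_mem_commutator (hSC haS) hc⟩)
  rw [commutatorElement_def]
  exact Subgroup.mul_mem (S : Subgroup G) ((Subgroup.mem_normalizer_iff.1 hnS _).1 hwS) (Subgroup.inv_mem (S : Subgroup G) hwS)

/-- `S ∩ G'` is the product of `S ∩ C(Z(S))'` and `S ∩ N(K(S))'`. -/
theorem inf_commutator_eq_two (hCS : CStarHyp.{u} p) (hp2 : p ≠ 2) (S : Sylow p G) :
    (S : Subgroup G) ⊓ commutator G =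
      ((S : Subgroup G) ⊓ ⁅Subgroup.centralizer
          (((S : Subgroup G) ⊓ Subgroup.centralizer ((S : Subgroup G) : Set G) : Subgroup G) : Set G),
        Subgroup.centralizer
          (((S : Subgroup G) ⊓ Subgroup.centralizer ((S : Subgroup G) : Set G) : Subgroup G) : Set G)⁆) ⊔
      ((S : Subgroup G) ⊓ ⁅Subgroup.normalizer
          ((inducedFunctor (Kfun p) (S : Subgroup G) : Subgroup G) : Set G),
        Subgroup.normalizer ((inducedFunctor (Kfun p) (S : Subgroup G) : Subgroup G) : Set G)⁆) := by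
  refine le_antisymm ?_ (sup_le (inf_le_inf le_rfl ?_) (inf_le_inf le_rfl ?_))
  swap
  · rw [_root_.commutator_def]; exact Subgroup.commutator_mono le_top le_top
  swap
  · rw [_root_.commutator_def]; exact Subgroup.commutator_mono le_top le_top
  have h := tr_two hCS hp2 G S
  rw [Reach.TrAt, Local.trGen_nFam, ← _root_.commutator_def] at h
  rw [h]
  refine iSup₂_le fun F hF => ?_
  obtain ⟨W, hW, rfl⟩ := hF
  simp only [top_inf_eq]
  rcases hW with rfl | rfl
  · rw [inducedFunctor_center]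
    refine inf_commutator_normalizer_le S _ (Subgroup.le_centralizer_iff.1 inf_le_right) le_sup_left
      (le_sup_of_le_right ?_)
    have hN := Basic.normalizer_le_normalizer_w
      (W := inducedFunctor (Kfun p)) (G := G) (Section.isConjugacyFunctor_induced (isCharPFunctor_Kfun (p := p) hp2)) S.2
    exact inf_le_inf le_rfl (Subgroup.commutator_mono hN hN)
  · exact le_sup_right

end Cfsg.Agent.Lib.CharTransfer57
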